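import Groth.Agent.Lim8.K116.ModLim4
import Groth.Agent.PerfB.LimMod
import Groth.Agent.PerfC.FTExt
import Groth.Agent.Ega1.QcqsPush
import Groth.Agent.Fdesc.LocGenPullback

/-!
# Descent of finitely presented modules to a stage of a cofiltered limit

* `exists_epi`: for `f : X ⟶ Y` affine and `Y` qcqs a quasi-coherent module of finite type on `X` is a quotient of
  the pullback of a module of finite presentation on `Y`.
* `exists_stage`: descent of finitely presented modules.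
-/

set_option autoImplicit false
universe u v w
open CategoryTheory CategoryTheory.Limits AlgebraicGeometry Opposite TopologicalSpace

namespace K116.DescMod

open Groth.Agent Groth.Agent.PerfB.PushPull Groth.Agent.Flat2F.BCSec Groth.Agent.Fdesc.LocGen

theorem exists_epi {X Y : Scheme.{u}} (f : X ⟶ Y) [IsAffineHom f] [CompactSpace Y] [QuasiSeparatedSpace Y]
    (F : X.Modules) (hF : Coh.IsQCoh F) (hF' : CohB1.IsFT F) :
    ∃ (G : Y.Modules) (ψ : (Scheme.Modules.pullback f).obj G ⟶ F), CohB1.IsFP G ∧ Epi ψ := by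
  classical
  obtain ⟨T, hT⟩ : ∃ T : Finset Y.affineOpens, ∀ x : Y, ∃ V ∈ T, x ∈ (V : Y.Opens) := by
    have hc : IsCompact (Set.univ : Set Y) := isCompact_univ
    obtain ⟨t, ht⟩ := hc.elim_finite_subcover (fun V : Y.affineOpens => ((V : Y.Opens) : Set Y))
      (fun V => V.1.2) (by
        intro x _
        obtain ⟨V, hV, hx, -⟩ := exists_isAffineOpen_mem_and_subset (U := ⊤) (x := x) trivial
        exact Set.mem_iUnion.2 ⟨⟨V, hV⟩, hx⟩)
    refine ⟨t, fun x => ?_⟩
    have := ht (Set.mem_univ x)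
    simpa using this
  have hgen : ∀ V : Y.affineOpens, ∃ S : Finset Γ(F, f ⁻¹ᵁ (V : Y.Opens)),
      Submodule.span Γ(X, f ⁻¹ᵁ (V : Y.Opens)) (S : Set Γ(F, f ⁻¹ᵁ (V : Y.Opens))) = ⊤ := fun V =>
    (CohqA.FinSec.finite_sections (V.2.preimage f) hF hF').fg_top
  choose S hS using hgen
  let I := Σ V : Y.affineOpens, Γ((Scheme.Modules.pushforward f).obj F, (V : Y.Opens))
  obtain ⟨G, φ, hG, h⟩ := PerfC.FTExt.exists_isFP_sections ((Scheme.Modules.pushforward f).obj F)
    (Ega1.QcqsPush.isQCoh_pushforward f F hF) (T.sigma S : Finset I)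
    (fun i => (i.1 : Y.Opens)) (fun i _ => i.1.2.isCompact) (fun i => i.2)
  let ψ := ((Scheme.Modules.pullbackPushforwardAdjunction f).homEquiv G F).symm φ
  refine ⟨G, ψ, hG, FormalB.ModPowAff2.epi_of_affine_cover hF _ fun x => ?_⟩
  obtain ⟨V, hV, hx⟩ := hT (f x)
  refine ⟨f ⁻¹ᵁ (V : Y.Opens), hx, V.2.preimage f, ?_⟩
  have hψ : ∀ t : Γ(G, (V : Y.Opens)), ψ.app (f ⁻¹ᵁ (V : Y.Opens)) (pullSec f t) = φ.app V t := by
    intro t
    have h1 : (Scheme.Modules.pullbackPushforwardAdjunction f).unit.app G ≫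
        (Scheme.Modules.pushforward f).map ψ = φ :=
      ((Scheme.Modules.pullbackPushforwardAdjunction f).homEquiv_unit G F ψ).symm.trans
        (Equiv.apply_symm_apply _ _)
    exact congr(($h1).app V t)
  intro m
  have hm : m ∈ Submodule.span Γ(X, f ⁻¹ᵁ (V : Y.Opens)) (S V : Set Γ(F, f ⁻¹ᵁ (V : Y.Opens))) := by
    rw [hS V]; trivial
  induction hm using Submodule.span_induction with
  | mem m hm =>
    obtain ⟨t, ht⟩ := h ⟨V, m⟩ (Finset.mem_sigma.2 ⟨hV, hm⟩)
    exact ⟨pullSec f t, (hψ t).trans ht⟩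
  | zero => exact ⟨0, map_zero _⟩
  | add a b _ _ ha hb =>
    obtain ⟨a', rfl⟩ := ha
    obtain ⟨b', rfl⟩ := hb
    exact ⟨a' + b', map_add _ _ _⟩
  | smul r a _ ha =>
    obtain ⟨a', rfl⟩ := ha
    exact ⟨r • a', Scheme.Modules.Hom.app_smul _ _ _⟩

variable {I : Type u} [SmallCategory I] [IsCofiltered I] {D : I ⥤ Scheme.{u}} {c : Cone D}
  [∀ {i j : I} (f : i ⟶ j), IsAffineHom (D.map f)] (hc : IsLimit c) {i : I}
  [CompactSpace (D.obj i)] [QuasiSeparatedSpace (D.obj i)]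

include hc in
/-- A finitely presented module on the limit is the pullback of a finitely presented module on a stage. -/
theorem exists_stage (F : c.pt.Modules) (hF : CohB1.IsFP F) :
    ∃ (j : I) (_ : j ⟶ i) (Fj : (D.obj j).Modules), CohB1.IsFP Fj ∧
      Nonempty ((Scheme.Modules.pullback (c.π.app j)).obj Fj ≅ F) := by
  have : IsAffineHom (c.π.app i) := isAffineHom_π_app D c hc i
  have hFq := Models2.FPCoh.isQCoh_of_isFP hF
  obtain ⟨G, ψ, hG, hψ⟩ := exists_epi (c.π.app i) F hFq (ModLim.isFT_of_isFP hF)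
  have hGq := FormalA.PullbackQC.isQCoh_pullback (c.π.app i) G (Models2.FPCoh.isQCoh_of_isFP hG)
  have hK := ModLim.isFT_kernel ψ hGq (FormalA.PullbackQC.isFT_pullback _ _ (ModLim.isFT_of_isFP hG)) hFq hF
  have hKq := PerfA.QCohSerre.isQCoh_kernel ψ hGq hFq
  obtain ⟨H, θ, hH, hθ⟩ := exists_epi (c.π.app i) (kernel ψ) hKq hK
  obtain ⟨j, a, χ, hχ⟩ := PerfB.LimMod.exists_hom hc hH (Models2.FPCoh.isQCoh_of_isFP hG)
    (ModLim.isFT_of_isFP hG) (θ ≫ kernel.ι ψ)
  refine ⟨j, a, cokernel χ, Smoothlim.FPMod.isFP_cokernel χ (FormalA.PullbackQC.isFP_pullback _ _ hH)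
    (FormalA.PullbackQC.isFP_pullback _ _ hG), ?_⟩
  let cH := cmp (c.π.app j) (D.map a) (c.π.app i) (c.w a) H
  let cG := cmp (c.π.app j) (D.map a) (c.π.app i) (c.w a) G
  have h1 : (Scheme.Modules.pullback (c.π.app j)).map χ ≫ cG.hom = cH.hom ≫ θ ≫ kernel.ι ψ := by
    rw [← hχ, pull, Iso.hom_inv_id_assoc]
  exact ⟨PreservesCokernel.iso (Scheme.Modules.pullback (c.π.app j)) χ ≪≫
    cokernel.mapIso _ _ cH cG h1 ≪≫ cokernelEpiComp θ (kernel.ι ψ) ≪≫
    IsColimit.coconePointUniqueUpToIso (colimit.isColimit _)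
      (Abelian.epiIsCokernelOfKernel _ (kernelIsKernel ψ))⟩

end K116.DescMod
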