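import Groth.Agent.Lim8.K116.ModLim4
import Groth.Agent.PerfB.LimMod
import Groth.Agent.Ega2.BasSec

/-!
# Locally free modules of constant rank in the limit

* `rank_unique`: the rank of a free module at a point is unique.
* `isFinLocFreeOfRank_pullback'`: pullback along a map whose image lies in the locus where the module is free of
  rank `n`.
* `isFinLocFreeOfRank_iff_eventually`.
-/

set_option autoImplicit false
universe u v w
open CategoryTheory CategoryTheory.Limits AlgebraicGeometry Opposite TopologicalSpace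

namespace K116.RankLim

open Groth.Agent Groth.Agent.PerfB.PushPull Groth.Agent.Flat2F.BCSec

/-- The rank of a module which is free near `x` is unique. -/
theorem rank_unique {X : Scheme.{u}} {M : X.Modules} {m n : ℕ} {U V : X.Opens} {x : X} (hU : x ∈ U)
    (hV : x ∈ V) (e : Nonempty (M.restrict U.ι ≅ FlatMod.freeMod (U : Scheme.{u}) m))
    (f : Nonempty (M.restrict V.ι ≅ FlatMod.freeMod (V : Scheme.{u}) n)) : m = n := by
  rw [Ega2.BasSec.nonempty_restrict_iso_freeMod_iff] at e f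
  obtain ⟨e, he⟩ := e
  obtain ⟨f, hf⟩ := f
  obtain ⟨b, -⟩ := (Ega2.BasSec.comb_bijective_iff _).mp (he.res (inf_le_left : U ⊓ V ≤ U)).bijective
  obtain ⟨b', -⟩ := (Ega2.BasSec.comb_bijective_iff _).mp (hf.res (inf_le_right : U ⊓ V ≤ V)).bijective
  have : Nonempty (U ⊓ V : X.Opens) := ⟨⟨x, hU, hV⟩⟩
  have : Nontrivial Γ(X, U ⊓ V) := inferInstance
  have h := b.indexEquiv b'
  simpa using Fintype.card_congr h

/-- The locus where a module is free of rank `n`. -/
noncomputable def locus {X : Scheme.{u}} (n : ℕ) (M : X.Modules) : X.Opens :=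
  ⨆ U : {U : X.Opens // Nonempty (M.restrict U.ι ≅ FlatMod.freeMod (U : Scheme.{u}) n)}, U.1

theorem mem_locus {X : Scheme.{u}} {n : ℕ} {M : X.Modules} {x : X} :
    x ∈ locus n M ↔ ∃ U : X.Opens, x ∈ U ∧ Nonempty (M.restrict U.ι ≅ FlatMod.freeMod (U : Scheme.{u}) n) := by
  simp [locus, and_comm]

theorem nonempty_iso_restrict_pullback {X Y : Scheme.{u}} (f : X ⟶ Y) {M : Y.Modules} {n : ℕ} {U : Y.Opens}
    (h : Nonempty (M.restrict U.ι ≅ FlatMod.freeMod (U : Scheme.{u}) n)) :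
    Nonempty (((Scheme.Modules.pullback f).obj M).restrict (f ⁻¹ᵁ U).ι ≅
      FlatMod.freeMod (f ⁻¹ᵁ U : Scheme.{u}) n) := by
  obtain ⟨e⟩ := h
  exact ⟨(PerfB.FlatPull.pullbackRestrict f U).app M ≪≫
    (Scheme.Modules.pullback (f ∣_ U)).mapIso e ≪≫ PerfB.FlatPull.pullbackFreeMod _ n⟩

theorem isFinLocFreeOfRank_pullback' {X Y : Scheme.{u}} (f : X ⟶ Y) {M : Y.Modules} {n : ℕ}
    (h : ∀ x, f x ∈ locus n M) : FlatMod.IsFinLocFreeOfRank n ((Scheme.Modules.pullback f).obj M) := by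
  intro x
  obtain ⟨U, hx, e⟩ := mem_locus.mp (h x)
  exact ⟨f ⁻¹ᵁ U, hx, nonempty_iso_restrict_pullback f e⟩

theorem isFinLocFreeOfRank_of_iso {X : Scheme.{u}} {M N : X.Modules} {n : ℕ} (e : M ≅ N)
    (h : FlatMod.IsFinLocFreeOfRank n M) : FlatMod.IsFinLocFreeOfRank n N := by
  intro x
  obtain ⟨U, hx, ⟨f⟩⟩ := h x
  exact ⟨U, hx, ⟨((Scheme.Modules.restrictFunctor U.ι).mapIso e).symm ≪≫ f⟩⟩

variable {I : Type u} [SmallCategory I] [IsCofiltered I] {D : I ⥤ Scheme.{u}} {c : Cone D}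
  [∀ {i j : I} (f : i ⟶ j), IsAffineHom (D.map f)] (hc : IsLimit c) {i : I}
  {F : (D.obj i).Modules} [CompactSpace (D.obj i)]

include hc in
theorem isFinLocFreeOfRank_iff_eventually (hF' : CohB1.IsFP F) (n : ℕ) :
    FlatMod.IsFinLocFreeOfRank n ((Scheme.Modules.pullback (c.π.app i)).obj F) ↔
      ∃ (j : I) (a : j ⟶ i), FlatMod.IsFinLocFreeOfRank n ((Scheme.Modules.pullback (D.map a)).obj F) := by
  constructor
  · intro h
    obtain ⟨j, a, hj⟩ := PerfB.LimMod.exists_isFinLocFree hc hF' (fun x => by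
      obtain ⟨V, hx, e⟩ := h x
      exact ⟨V, n, hx, e⟩)
    have hj1 := hj j (𝟙 j)
    set Fj := (Scheme.Modules.pullback (D.map (𝟙 j ≫ a))).obj F with hFj
    have : CompactSpace (D.obj j) := QuasiCompact.compactSpace_of_compactSpace (D.map a)
    have hFjn : FlatMod.IsFinLocFreeOfRank n ((Scheme.Modules.pullback (c.π.app j)).obj Fj) :=
      isFinLocFreeOfRank_of_iso (cmp (c.π.app j) (D.map (𝟙 j ≫ a)) (c.π.app i) (c.w _) F).symm h
    obtain ⟨k, b, hk⟩ := exists_map_preimage_le_map_preimage D c hc (i := j) (U := ⊤) (V := locus n Fj)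
      isCompact_univ (by
        intro x _
        obtain ⟨U, m, hx, e⟩ := hj1 (c.π.app j x)
        obtain ⟨V, hx', e'⟩ := hFjn x
        have := rank_unique (x := x) (U := c.π.app j ⁻¹ᵁ U) hx hx' (nonempty_iso_restrict_pullback _ e) e'
        subst this
        exact mem_locus.mpr ⟨U, hx, e⟩)
    refine ⟨k, b ≫ 𝟙 j ≫ a, ?_⟩
    exact isFinLocFreeOfRank_of_iso (cmp (D.map b) (D.map (𝟙 j ≫ a)) (D.map (b ≫ 𝟙 j ≫ a))
      (D.map_comp _ _).symm F) (isFinLocFreeOfRank_pullback' (D.map b) (fun x => hk trivial))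
  · rintro ⟨j, a, h⟩
    refine isFinLocFreeOfRank_of_iso (cmp (c.π.app j) (D.map a) (c.π.app i) (c.w _) F)
      (isFinLocFreeOfRank_pullback' _ fun x => mem_locus.mpr (h _))

end K116.RankLim
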