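import Groth.Agent.Ega3B.NormalBirational
import Groth.Agent.Ega4dA.LocalIsoAux

/-!
# Birational morphisms to normal schemes

* `isIso_of_finite`: a finite birational morphism of integral schemes with normal target is an isomorphism.
* `isLocalIso`, `isOpenImmersion`: locally quasi-finite birational morphisms to a normal scheme.
-/

set_option autoImplicit false
universe u v w
open CategoryTheory CategoryTheory.Limits AlgebraicGeometry Opposite TopologicalSpace

namespace K116.ZmtBir

open Groth.Agent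

theorem isIso_stalkMap_comp {X Y Z : Scheme.{u}} (f : X ⟶ Y) (g : Y ⟶ Z) (x : X) (h1 : IsIso (f.stalkMap x))
    (h2 : IsIso (g.stalkMap (f x))) : IsIso ((f ≫ g).stalkMap x) := by
  have h : (f ≫ g).stalkMap x = g.stalkMap (f x) ≫ f.stalkMap x := Scheme.Hom.stalkMap_comp f g x
  rw [h]
  exact IsIso.comp_isIso' h2 h1

theorem isIso_stalkMap_of_comp {X Y Z : Scheme.{u}} (f : X ⟶ Y) (g : Y ⟶ Z) (x : X)
    (h1 : IsIso ((f ≫ g).stalkMap x)) (h2 : IsIso (g.stalkMap (f x))) : IsIso (f.stalkMap x) := by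
  have h : (f ≫ g).stalkMap x = g.stalkMap (f x) ≫ f.stalkMap x := Scheme.Hom.stalkMap_comp f g x
  rw [h] at h1
  exact @IsIso.of_isIso_comp_left _ _ _ _ _ (g.stalkMap (f x)) (f.stalkMap x) h2 h1

variable {X Y : Scheme.{u}} [IsIntegral X] [IsIntegral Y]

theorem isIso_of_finite (hN : ∀ y : Y, IsIntegrallyClosed (Y.presheaf.stalk y)) (f : X ⟶ Y) [IsFinite f]
    (hgen : f (genericPoint X) = genericPoint Y) (hbir : IsIso (f.stalkMap (genericPoint X))) : IsIso f := by
  have h1 : IsOpenImmersion f := Ega3B.NormalBirational.isOpenImmersion_of_birational hN f hgen hbir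
  have h2 : Surjective f := by
    constructor
    intro y
    have hc : IsClosed (Set.range f) := f.isClosedMap.isClosed_range
    have hy : y ∈ closure {genericPoint Y} := by
      rw [genericPoint_closure]; trivial
    exact hc.closure_subset_iff.mpr (Set.singleton_subset_iff.mpr ⟨_, hgen⟩) hy
  exact (isIso_iff_isOpenImmersion_and_surjective f).mpr ⟨h1, h2⟩

/-- Restriction of a birational morphism to nonempty opens is birational. -/
theorem bir_resLE (f : X ⟶ Y) (hgen : f (genericPoint X) = genericPoint Y)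
    (hbir : IsIso (f.stalkMap (genericPoint X))) {U : X.Opens} {V : Y.Opens} (e : U ≤ f ⁻¹ᵁ V)
    [IsIntegral (U : Scheme.{u})] [IsIntegral (V : Scheme.{u})] :
    (f.resLE V U e) (genericPoint (U : Scheme.{u})) = genericPoint (V : Scheme.{u}) ∧
      IsIso ((f.resLE V U e).stalkMap (genericPoint (U : Scheme.{u}))) := by
  have hU : U.ι (genericPoint (U : Scheme.{u})) = genericPoint X := genericPoint_eq_of_isOpenImmersion U.ι
  have hV : V.ι (genericPoint (V : Scheme.{u})) = genericPoint Y := genericPoint_eq_of_isOpenImmersion V.ι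
  constructor
  · apply V.ι.isOpenEmbedding.injective
    rw [← Scheme.Hom.comp_apply, Scheme.Hom.resLE_comp_ι, Scheme.Hom.comp_apply, hU, hV, hgen]
  · have h1 : ∀ x : X, x = genericPoint X → IsIso (f.stalkMap x) := by rintro _ rfl; exact hbir
    have h2 : IsIso ((U.ι ≫ f).stalkMap (genericPoint (U : Scheme.{u}))) :=
      isIso_stalkMap_comp _ _ _ inferInstance (h1 _ hU)
    have h3 : IsIso ((f.resLE V U e ≫ V.ι).stalkMap (genericPoint (U : Scheme.{u}))) := by
      have h4 : ∀ g : (U : Scheme.{u}) ⟶ Y, g = U.ι ≫ f → IsIso (g.stalkMap (genericPoint (U : Scheme.{u}))) := by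
        rintro _ rfl; exact h2
      exact h4 _ (Scheme.Hom.resLE_comp_ι f e)
    exact isIso_stalkMap_of_comp _ _ _ h3 inferInstance

theorem isLocalIso (hN : ∀ y : Y, IsIntegrallyClosed (Y.presheaf.stalk y)) (f : X ⟶ Y) [LocallyQuasiFinite f]
    [LocallyOfFiniteType f] (hgen : f (genericPoint X) = genericPoint Y)
    (hbir : IsIso (f.stalkMap (genericPoint X))) : IsLocalIso f := by
  constructor
  intro x
  obtain ⟨V, hV, hxV, -⟩ := exists_isAffineOpen_mem_and_subset (x := f x) (U := ⊤) trivial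
  obtain ⟨U, hU, hxU, e⟩ := exists_isAffineOpen_mem_and_subset (x := x) (U := f ⁻¹ᵁ V) hxV
  refine ⟨U, hxU, ?_⟩
  have : Nonempty (U : Scheme.{u}) := ⟨⟨x, hxU⟩⟩
  have : Nonempty (V : Scheme.{u}) := ⟨⟨f x, hxV⟩⟩
  have : IsAffine (U : Scheme.{u}) := hU
  have : IsAffine (V : Scheme.{u}) := hV
  have : IsIntegral (U : Scheme.{u}) := isIntegral_of_isOpenImmersion U.ι
  have : IsIntegral (V : Scheme.{u}) := isIntegral_of_isOpenImmersion V.ι
  obtain ⟨h1, h2⟩ := bir_resLE f hgen hbir e
  have hcomp : f.resLE V U e ≫ V.ι = U.ι ≫ f := Scheme.Hom.resLE_comp_ι f e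
  have h3 : LocallyOfFiniteType (f.resLE V U e) := by
    have : LocallyOfFiniteType (f.resLE V U e ≫ V.ι) := by rw [hcomp]; infer_instance
    exact locallyOfFiniteType_of_comp _ V.ι
  have h4 : LocallyQuasiFinite (f.resLE V U e) := by
    have : LocallyQuasiFinite (f.resLE V U e ≫ V.ι) := by rw [hcomp]; infer_instance
    exact LocallyQuasiFinite.of_comp _ V.ι
  have hNV : ∀ y : (V : Scheme.{u}), IsIntegrallyClosed ((V : Scheme.{u}).presheaf.stalk y) := fun y =>
    have := hN (V.ι y)
    IsIntegrallyClosed.of_equiv (asIso (V.ι.stalkMap y)).commRingCatIsoToRingEquiv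
  have h5 : IsOpenImmersion (f.resLE V U e) :=
    Ega3B.NormalBirational.isOpenImmersion_of_birational hNV _ h1 h2
  rw [← hcomp]
  infer_instance

theorem isOpenImmersion (hN : ∀ y : Y, IsIntegrallyClosed (Y.presheaf.stalk y)) (f : X ⟶ Y)
    [LocallyQuasiFinite f] [LocallyOfFiniteType f] [IsSeparated f]
    (hgen : f (genericPoint X) = genericPoint Y)
    (hbir : IsIso (f.stalkMap (genericPoint X))) : IsOpenImmersion f := by
  have := isLocalIso hN f hgen hbir
  exact Ega4dA.LocalIsoAux.isOpenImmersion_of_injective f (Ega4dA.LocalIsoAux.injective_of_isLocalIso f)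

end K116.ZmtBir
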