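import Groth.Agent.S0389
import Groth.Agent.Ega3B.FlatSec
import Groth.Agent.CohqA.FinSec

/-!
# Generic flatness without Noetherian hypotheses
-/

set_option autoImplicit false
universe u v w
open CategoryTheory CategoryTheory.Limits AlgebraicGeometry Opposite TopologicalSpace
open scoped TensorProduct

namespace K116.GenFlat

open Groth.Agent

/-- Algebraic generic flatness: the localization of the module is flat. -/
theorem exists_flat {R S M : Type u} [CommRing R] [IsDomain R] [CommRing S] [Algebra R S]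
    [Algebra.FiniteType R S] [AddCommGroup M] [Module S M] [Module R M] [IsScalarTower R S M]
    [Module.Finite S M] :
    ∃ f : R, f ≠ 0 ∧ ∀ (M' : Type u) [AddCommGroup M'] [Module S M'] [Module R M'] [IsScalarTower R S M']
      (g : M →ₗ[S] M') [IsLocalizedModule (.powers (algebraMap R S f)) g], Module.Flat R M' := by
  obtain ⟨f, hf, h1, -⟩ := S0389.result (R := R) (S := S) (M := M)
  refine ⟨f, hf, fun M' _ _ _ _ g _ => ?_⟩
  have h2 : IsLocalizedModule (.powers f) (g.restrictScalars R) := IsLocalizedModule.restrictScalars_powers f g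
  have h3 : Module.Flat R (Localization.Away f) := IsLocalization.flat _ (.powers f)
  have h4 : Module.Flat R (Localization.Away f ⊗[R] M) := Module.Flat.trans R (Localization.Away f) _
  exact Module.Flat.of_linearEquiv
    (IsLocalizedModule.linearEquiv (.powers f) (g.restrictScalars R)
      (TensorProduct.mk R (Localization.Away f) M 1))

theorem main {X Y : Scheme.{u}} (u : X ⟶ Y) [IsIntegral Y]
    [LocallyOfFiniteType u] [QuasiCompact u] (F : X.Modules) (hF : Coh.IsQCoh F) (hF' : CohB1.IsFT F) :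
    ∃ U : Y.Opens, (U : Set Y).Nonempty ∧ ∀ x : X, u.base x ∈ U → FlatMod.IsFlatOverAt u F x := by
  classical
  obtain ⟨V, hV, hyV, -⟩ := exists_isAffineOpen_mem_and_subset (x := genericPoint Y) (U := ⊤) trivial
  have : Nonempty V := ⟨⟨_, hyV⟩⟩
  have hc : IsCompact ((u ⁻¹ᵁ V : X.Opens) : Set X) := QuasiCompact.isCompact_preimage _ V.2 hV.isCompact
  obtain ⟨T, hT⟩ : ∃ T : Finset {W : X.Opens // IsAffineOpen W ∧ W ≤ u ⁻¹ᵁ V}, ∀ x ∈ u ⁻¹ᵁ V, ∃ W ∈ T, x ∈ W.1 := by
    obtain ⟨t, ht⟩ := hc.elim_finite_subcover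
      (fun W : {W : X.Opens // IsAffineOpen W ∧ W ≤ u ⁻¹ᵁ V} => (W.1 : Set X)) (fun W => W.1.2) (by
        intro x hx
        obtain ⟨W, hW, hxW, hle⟩ := exists_isAffineOpen_mem_and_subset (U := u ⁻¹ᵁ V) (x := x) hx
        exact Set.mem_iUnion.2 ⟨⟨W, hW, hle⟩, hxW⟩)
    refine ⟨t, fun x hx => ?_⟩
    have := ht hx
    simpa using this
  have key : ∀ W : {W : X.Opens // IsAffineOpen W ∧ W ≤ u ⁻¹ᵁ V}, ∃ f : Γ(Y, V), f ≠ 0 ∧
      ∀ x ∈ W.1, u x ∈ Y.basicOpen f → FlatMod.IsFlatOverAt u F x := by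
    rintro ⟨W, hW, e⟩
    let : Algebra Γ(Y, V) Γ(X, W) := (u.appLE V W e).hom.toAlgebra
    let m1 : Module Γ(Y, V) Γ(F, W) := Module.compHom Γ(F, W) (u.appLE V W e).hom
    have : IsScalarTower Γ(Y, V) Γ(X, W) Γ(F, W) := .of_algebraMap_smul fun _ _ => rfl
    have : Algebra.FiniteType Γ(Y, V) Γ(X, W) := LocallyOfFiniteType.finiteType_appLE u hV hW e
    have : Module.Finite Γ(X, W) Γ(F, W) := CohqA.FinSec.finite_sections hW hF hF'
    obtain ⟨f, hf, hfl⟩ := exists_flat (R := Γ(Y, V)) (S := Γ(X, W)) (M := Γ(F, W))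
    refine ⟨f, hf, fun x hx hxf => ?_⟩
    let f' : Γ(X, W) := u.appLE V W e f
    have hle : X.basicOpen f' ≤ u ⁻¹ᵁ V := (X.basicOpen_le f').trans e
    have hx' : x ∈ X.basicOpen f' := by
      rw [Scheme.basicOpen_appLE]
      exact ⟨hx, hxf⟩
    refine Ega3B.FlatSec.isFlatOverAt_of_flat_sections u F hF hV (hW.basicOpen f') hle ?_ x hx'
    let m2 : Module Γ(X, W) Γ(F, X.basicOpen f') := Fdesc.QCohStalk.resModule F (X.basicOpen_le f')
    let m3 : Module Γ(Y, V) Γ(F, X.basicOpen f') :=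
      Module.compHom Γ(F, X.basicOpen f') (u.appLE V (X.basicOpen f') hle).hom
    have : IsScalarTower Γ(Y, V) Γ(X, W) Γ(F, X.basicOpen f') := .of_algebraMap_smul fun r m => by
      change X.presheaf.map (homOfLE (X.basicOpen_le f')).op (u.appLE V W e r) • m =
        u.appLE V (X.basicOpen f') hle r • m
      congr 1
      have h1 := Scheme.Hom.appLE_map u e (homOfLE (X.basicOpen_le f')).op
      exact congr($h1 r)
    have := Fdesc.QCohStalk.isLocalizedModule_res F hW hF f'
    exact hfl Γ(F, X.basicOpen f') (Fdesc.QCohStalk.resₗ F (X.basicOpen_le f'))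
  choose f hf hfl using key
  refine ⟨Y.basicOpen (∏ W ∈ T, f W), ?_, ?_⟩
  · have h0 : (∏ W ∈ T, f W) ≠ 0 := Finset.prod_ne_zero_iff.mpr fun W _ => hf W
    rw [Set.nonempty_iff_ne_empty]
    intro h
    apply h0
    rw [← basicOpen_eq_bot_iff]
    exact SetLike.coe_injective h
  · intro x hx
    have hxV : u x ∈ V := Y.basicOpen_le _ hx
    obtain ⟨W, hW, hxW⟩ := hT x hxV
    refine hfl W x hxW ?_
    have : Y.basicOpen (∏ W ∈ T, f W) ≤ Y.basicOpen (f W) := by
      rw [← Finset.mul_prod_erase T f hW, Scheme.basicOpen_mul]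
      exact inf_le_left
    exact this hx

end K116.GenFlat
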