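import Groth.Agent.Smoothlim.LimDescend
import Groth.Agent.Smoothlim.ProperDescend
import Groth.Agent.Ega43.LimitDescendIso

/-!
# Descent over merely quasi-compact bases from descent along qcqs limits

`descendsAffine_of_descendsLim`: `DescendsLim P` implies `DescendsAffine` for morphisms of finite presentation, so
that `exists_descend` applies over quasi-compact (not necessarily quasi-separated) `Y₀`.
-/

set_option autoImplicit false
universe u

open CategoryTheory CategoryTheory.Limits AlgebraicGeometry Opposite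

namespace K116.DescAffLim

open Groth.Agent.Ega43.LimitDescend Groth.Agent.Ega43.LimitDescendIso Groth.Agent.Smoothlim.LimBase

/-- Finite presentation. -/
abbrev FP : MorphismProperty Scheme.{u} :=
  @LocallyOfFinitePresentation ⊓ @QuasiCompact ⊓ @QuasiSeparated

instance isStableUnderBaseChange_LFP :
    MorphismProperty.IsStableUnderBaseChange @LocallyOfFinitePresentation.{u} :=
  locallyOfFinitePresentation_isStableUnderBaseChange

instance isStableUnderBaseChange_FP : FP.{u}.IsStableUnderBaseChange :=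
  have _ : MorphismProperty.IsStableUnderBaseChange
      ((@LocallyOfFinitePresentation : MorphismProperty Scheme.{u}) ⊓ (@QuasiCompact : MorphismProperty Scheme.{u})) :=
    MorphismProperty.IsStableUnderBaseChange.inf
  MorphismProperty.IsStableUnderBaseChange.inf
    (P := (@LocallyOfFinitePresentation : MorphismProperty Scheme.{u}) ⊓ (@QuasiCompact : MorphismProperty Scheme.{u}))
    (Q := (@QuasiSeparated : MorphismProperty Scheme.{u}))

theorem descendsAffine_of_descendsLim {P : MorphismProperty Scheme.{u}} (hP : DescendsLim P) :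
    DescendsAffine FP P := by
  intro α _ _ _ F c hc B t ht b hb X f hQ hP'
  obtain ⟨⟨_, _⟩, _⟩ := hQ
  have h1 : ∀ j, IsAffine ((F.op ⋙ Scheme.Spec).obj j) := fun j => inferInstanceAs (IsAffine (Spec _))
  have h2 : ∀ {i j : αᵒᵖ} (φ : i ⟶ j), IsAffineHom ((F.op ⋙ Scheme.Spec).map φ) := fun φ => inferInstance
  obtain ⟨j, hj⟩ := hP (F.op ⋙ Scheme.Spec) (Scheme.Spec.mapCone c.op) (isLimitOfPreserves Scheme.Spec hc.op)
    (B := Spec B) (fun j => Spec.map (t j.unop)) (fun {i j} φ => by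
      rw [← ht j.unop i.unop (leOfHom φ.unop), Spec.map_comp]
      rfl) f (Spec.map b) (fun j => by
      rw [← hb j.unop, Spec.map_comp]
      rfl) (pullback.fst f (Spec.map b)) (pullback.snd f (Spec.map b)) (IsPullback.of_hasPullback _ _) hP'
  exact ⟨j.unop, hj⟩

theorem exists_descend_of_fp {P : MorphismProperty Scheme.{u}} [P.IsStableUnderBaseChange]
    [IsZariskiLocalAtTarget P] (hP : DescendsLim P)
    {I : Type u} [SmallCategory I] [IsCofiltered I]
    (D : I ⥤ Scheme.{u}) (c : Cone D) (hc : IsLimit c)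
    [∀ (i j : I) (f : i ⟶ j), IsAffineHom (D.map f)] (i₀ : I)
    {X₀ Y₀ : Scheme.{u}} (f₀ : X₀ ⟶ Y₀) (g₀ : Y₀ ⟶ D.obj i₀) [CompactSpace Y₀]
    [LocallyOfFinitePresentation f₀] [QuasiCompact f₀] [QuasiSeparated f₀]
    {X Y : Scheme.{u}} (f : X ⟶ Y) (g : Y ⟶ c.pt) (qY : Y ⟶ Y₀) (qX : X ⟶ X₀)
    (hY : IsPullback qY g g₀ (c.π.app i₀)) (hX : IsPullback qX f f₀ qY) (hf : P f) :
    ∃ (j : I) (φ : j ⟶ i₀) (Xj Yj : Scheme.{u}) (fj : Xj ⟶ Yj) (gj : Yj ⟶ D.obj j) (pY : Yj ⟶ Y₀)
      (pX : Xj ⟶ X₀), IsPullback pY gj g₀ (D.map φ) ∧ IsPullback pX fj f₀ pY ∧ P fj := by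
  obtain ⟨i, φ, hi⟩ := exists_descend (descendsAffine_of_descendsLim hP) D c hc i₀ f₀ g₀ f g qY qX hY hX
      ⟨⟨inferInstance, inferInstance⟩, inferInstance⟩ hf
  exact ⟨i, φ, _, _, _, _, _, _, IsPullback.of_hasPullback g₀ (D.map φ),
      IsPullback.of_hasPullback f₀ (Limits.pullback.fst g₀ (D.map φ)), hi⟩

/-- The converse direction of the descent statements. -/
theorem of_stage {P : MorphismProperty Scheme.{u}} [P.IsStableUnderBaseChange]
    {I : Type u} [SmallCategory I]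
    {D : I ⥤ Scheme.{u}} {c : Cone D} {i₀ : I}
    {X₀ Y₀ : Scheme.{u}} {f₀ : X₀ ⟶ Y₀} {g₀ : Y₀ ⟶ D.obj i₀}
    {X Y : Scheme.{u}} {f : X ⟶ Y} {g : Y ⟶ c.pt} {qY : Y ⟶ Y₀} {qX : X ⟶ X₀}
    (hY : IsPullback qY g g₀ (c.π.app i₀)) (hX : IsPullback qX f f₀ qY)
    {j : I} {φ : j ⟶ i₀} {Xj Yj : Scheme.{u}} {fj : Xj ⟶ Yj} {gj : Yj ⟶ D.obj j} {pY : Yj ⟶ Y₀}
    {pX : Xj ⟶ X₀} (h1 : IsPullback pY gj g₀ (D.map φ)) (h2 : IsPullback pX fj f₀ pY) (hf : P fj) : P f := by
  have e : g ≫ c.π.app j ≫ D.map φ = g ≫ c.π.app i₀ := by rw [c.w]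
  let k : Y ⟶ Yj := h1.lift qY (g ≫ c.π.app j) (by rw [hY.w, Category.assoc, e])
  have hk : k ≫ pY = qY := h1.lift_fst _ _ _
  have h3 : IsPullback (h2.lift qX (f ≫ k) (by rw [hX.w, Category.assoc, hk])) f fj k :=
    IsPullback.of_right (by simpa [hk] using hX) (by simp) h2
  exact MorphismProperty.of_isPullback h3 hf

end K116.DescAffLim
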