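import Groth.Agent.Lim8.K116.ModLim

/-!
# Homs between pullbacks of quasi-coherent modules which agree in the limit agree at a stage, II

* `exists_eq`: for `G` quasi-coherent of finite type and `E` quasi-coherent on a quasi-compact stage.
* `exists_map_eq`: the same for pullbacks of homs from the stage.
* `exists_zero`: a quasi-coherent module of finite type whose pullback to the limit is zero has zero pullback to a
  stage.
-/

set_option autoImplicit false
universe u v w
open CategoryTheory CategoryTheory.Limits AlgebraicGeometry Opposite TopologicalSpace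
open scoped TensorProduct

namespace K116.ModLim

open Groth.Agent.PerfB Groth.Agent.PerfB.HomLim Groth.Agent.PerfB.PushPull Groth.Agent.PerfB.FiltSec
open Groth.Agent.Flat2F.BCSec Groth.Agent.VarietyB.PullSec Groth.Agent.CohqB.HomSheaf
open Groth.Agent Groth.Agent.Ega1.QCohLoc

section

variable {J : Type v} [Category.{w} J] [IsFiltered J]
variable {X : Scheme.{u}} {T : J ⥤ X.Modules} {c : Cocone T} (G : X.Modules)

theorem exists_hom_zero [CompactSpace X] (hG0 : Coh.IsQCoh G) (hG : CohB1.IsFT G)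
    (h : ∀ V : X.Opens, IsAffineOpen V → InjAt c V) (j : J) (φ : G ⟶ T.obj j)
    (hφ : φ ≫ leg c j = 0) : ∃ (k : J) (f : j ⟶ k), φ ≫ T.map f = 0 := by
  obtain ⟨k, f, hf⟩ := injAt_of_isCompact (c := (homF G).mapCocone c) (fun V hV => by
    have := CohqA.FinSec.finite_sections hV hG0 hG
    exact injAt_hom G hG0 hV (h V hV)) (V := ⊤) isCompact_univ j (ofHom φ ⊤)
    (congr(ofHom $hφ ⊤))
  exact ⟨k, f, (topEquiv G (T.obj k)).symm.injective (hf.trans rfl)⟩

end

section

variable {Y : Scheme.{u}} {J : Type v} [Category.{w} J] [IsFiltered J] {Z : Jᵒᵖ ⥤ Over Y}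
  {c : Cone Z} (hc : IsLim c) {G E : Y.Modules} [CompactSpace Y] (hG : Coh.IsQCoh G) (hG' : CohB1.IsFT G)
  (hE : Coh.IsQCoh E)

include hc hG hG' hE in
theorem exists_pull_eq (j : J)
    (φ ψ : (Scheme.Modules.pullback (pr Z j)).obj G ⟶ (Scheme.Modules.pullback (pr Z j)).obj E)
    (h : pullQ c j φ = pullQ c j ψ) : ∃ (k : J) (f : j ⟶ k), pullT Z f φ = pullT Z f ψ := by
  have h1 : (adj (pr Z j) φ - adj (pr Z j) ψ) ≫ leg (cT c E) j = 0 := by
    have h2 := congrArg (adj c.pt.hom) h
    rw [adj_pull, adj_pull] at h2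
    rw [Preadditive.sub_comp]
    exact sub_eq_zero.mpr h2
  obtain ⟨k, f, hf⟩ := exists_hom_zero (c := cT c E) G hG hG'
    (fun V hV => injAt_T hc hE hV) j _ h1
  refine ⟨k, f, adj_injective _ ?_⟩
  rw [adj_pull, adj_pull]
  have h3 : (adj (pr Z j) φ - adj (pr Z j) ψ) ≫ ppMap E (tt Z f) _ _ (tt_pr Z f) = 0 := hf
  rw [Preadditive.sub_comp] at h3
  exact sub_eq_zero.mp h3

end

theorem pull_map {X W W' : Scheme.{u}} {E G : X.Modules} (k : W' ⟶ W) (a : W ⟶ X) (a' : W' ⟶ X)
    (h : k ≫ a = a') (φ : G ⟶ E) :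
    pull k a a' h ((Scheme.Modules.pullback a).map φ) = (Scheme.Modules.pullback a').map φ := by
  apply hom_ext_pullback
  intro U s
  rw [pull_sec, map_sec, map_sec, tr_sec k a a' h E (preimage_le h U) le_rfl le_rfl]

variable {I : Type u} [SmallCategory I] [IsCofiltered I] {D : I ⥤ Scheme.{u}} {c : Cone D}
  [∀ {i j : I} (f : i ⟶ j), IsAffineHom (D.map f)] (hc : IsLimit c) {i : I}
  {G E : (D.obj i).Modules} [CompactSpace (D.obj i)]

include hc in
/-- Homs between pullbacks which agree on the limit agree at a later stage. -/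
theorem exists_eq (hG : Coh.IsQCoh G) (hG' : CohB1.IsFT G) (hE : Coh.IsQCoh E) {j : I} (a : j ⟶ i)
    (φ ψ : (Scheme.Modules.pullback (D.map a)).obj G ⟶ (Scheme.Modules.pullback (D.map a)).obj E)
    (h : pull (c.π.app j) (D.map a) (c.π.app i) (c.w a) φ =
      pull (c.π.app j) (D.map a) (c.π.app i) (c.w a) ψ) :
    ∃ (k : I) (b : k ⟶ j), pull (D.map b) (D.map a) (D.map (b ≫ a)) (D.map_comp b a).symm φ =
      pull (D.map b) (D.map a) (D.map (b ≫ a)) (D.map_comp b a).symm ψ := by
  obtain ⟨k, f, hk⟩ := exists_pull_eq (LimMod.isLim hc i) hG hG' hE (op (Over.mk a)) φ ψ h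
  have e : k.unop.hom = f.unop.left ≫ a := (Over.w f.unop).symm
  have key : ∀ (a' : k.unop.left ⟶ i) (_ : k.unop.hom = a')
      (h1 : D.map f.unop.left ≫ D.map a = D.map a'),
      pull (D.map f.unop.left) (D.map a) (D.map a') h1 φ =
      pull (D.map f.unop.left) (D.map a) (D.map a') h1 ψ := by
    rintro _ rfl h1
    exact hk
  exact ⟨k.unop.left, f.unop.left, key _ e _⟩

include hc in
theorem map_eq_iff (hG : Coh.IsQCoh G) (hG' : CohB1.IsFT G) (hE : Coh.IsQCoh E) (φ ψ : G ⟶ E) :
    (Scheme.Modules.pullback (c.π.app i)).map φ = (Scheme.Modules.pullback (c.π.app i)).map ψ ↔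
      ∃ (j : I) (a : j ⟶ i),
        (Scheme.Modules.pullback (D.map a)).map φ = (Scheme.Modules.pullback (D.map a)).map ψ := by
  constructor
  · intro h
    obtain ⟨k, b, hk⟩ := exists_eq hc hG hG' hE (𝟙 i) ((Scheme.Modules.pullback (D.map (𝟙 i))).map φ)
      ((Scheme.Modules.pullback (D.map (𝟙 i))).map ψ) (by rw [pull_map, pull_map, h])
    rw [pull_map, pull_map] at hk
    exact ⟨k, b ≫ 𝟙 i, hk⟩
  · rintro ⟨j, a, h⟩
    rw [← pull_map (c.π.app j) (D.map a) (c.π.app i) (c.w a) φ, h, pull_map]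

end K116.ModLim
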