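import Groth.Agent.Lim8.K116.FlatClosure
import Mathlib.AlgebraicGeometry.Morphisms.UnderlyingMap

/-!
# Pro-constructible subsets over a base change of a limit; dominance descends along flat limits

* `exists_stage_preimage_eq_empty`: `Y₀ ⟶ D i₀` with `Y₀` quasi-compact, `C ⊆ Y₀` pro-constructible, with empty
  preimage in `Y₀ ×[D i₀] lim D`; then the preimage in the base change to some stage is empty.
* `isDominant_iff`: dominance of a quasi-compact morphism along a flat limit.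
-/

set_option autoImplicit false
universe u

open CategoryTheory CategoryTheory.Limits AlgebraicGeometry

namespace K116.Dominant

open Groth.Agent.Ega4fib.H119.ProIndScheme Groth.Agent.Ega4fib.H119.ProInd ProCons

theorem exists_point {X Y Z P : Scheme.{u}} {fst : P ⟶ X} {snd : P ⟶ Y} {f : X ⟶ Z} {g : Y ⟶ Z}
    (h : IsPullback fst snd f g) (x : X) (y : Y) (e : f x = g y) : ∃ p : P, fst p = x ∧ snd p = y := by
  obtain ⟨z, h1, h2⟩ := Scheme.Pullback.exists_preimage_pullback x y e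
  refine ⟨h.isoPullback.inv z, ?_, ?_⟩
  · rw [← Scheme.Hom.comp_apply, h.isoPullback_inv_fst, h1]
  · rw [← Scheme.Hom.comp_apply, h.isoPullback_inv_snd, h2]

theorem range_snd {X Y Z P : Scheme.{u}} {fst : P ⟶ X} {snd : P ⟶ Y} {f : X ⟶ Z} {g : Y ⟶ Z}
    (h : IsPullback fst snd f g) : Set.range snd = g ⁻¹' Set.range f := by
  ext y
  constructor
  · rintro ⟨p, rfl⟩
    exact ⟨fst p, by rw [← Scheme.Hom.comp_apply, ← Scheme.Hom.comp_apply, h.w]⟩
  · rintro ⟨x, e⟩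
    obtain ⟨p, -, h2⟩ := exists_point h x y e
    exact ⟨p, h2⟩

variable {I : Type u} [SmallCategory I] [IsCofiltered I] {D : I ⥤ Scheme.{u}} {c : Cone D}
  (hc : IsLimit c) [∀ (i j : I) (f : i ⟶ j), IsAffineHom (D.map f)]

include hc in
theorem exists_stage_preimage_eq_empty {i₀ : I} {Y₀ : Scheme.{u}} [CompactSpace Y₀] (g₀ : Y₀ ⟶ D.obj i₀)
    {C : Set Y₀} (hC : IsProConstructible C) {Y : Scheme.{u}} {qY : Y ⟶ Y₀} {g : Y ⟶ c.pt}
    (hY : IsPullback qY g g₀ (c.π.app i₀)) (h : qY ⁻¹' C = ∅) :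
    ∃ (j : I) (φ : j ⟶ i₀), ∀ {Yj : Scheme.{u}} {pY : Yj ⟶ Y₀} {gj : Yj ⟶ D.obj j},
      IsPullback pY gj g₀ (D.map φ) → pY ⁻¹' C = ∅ := by
  obtain ⟨B, k, rfl⟩ := exists_affine_range hC
  obtain ⟨j, φ, hj⟩ := Range.exists_isEmpty_pullback hc (k ≫ g₀) ((Range.isEmpty_pullback_iff _ _).mpr
    fun b x e => by
      obtain ⟨y, h1, h2⟩ := exists_point hY (k b) x (by rw [← e, Scheme.Hom.comp_apply])
      have : y ∈ qY ⁻¹' Set.range k := ⟨b, h1.symm⟩
      rw [h] at this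
      exact this)
  refine ⟨j, φ, fun {Yj pY gj} hj' => Set.eq_empty_of_forall_notMem ?_⟩
  rintro y ⟨b, hb⟩
  refine (Range.isEmpty_pullback_iff _ _).mp hj b (gj y) ?_
  rw [← Scheme.Hom.comp_apply, ← hj'.w, Scheme.Hom.comp_apply, Scheme.Hom.comp_apply, hb]

include hc in
theorem isDominant_iff (i₀ : I) [CompactSpace (D.obj i₀)]
    (hfl : ∀ (i j : I) (φ : i ⟶ j), Flat (D.map φ))
    {X₀ Y₀ : Scheme.{u}} (f₀ : X₀ ⟶ Y₀) (g₀ : Y₀ ⟶ D.obj i₀)
    [QuasiCompact f₀] [QuasiCompact g₀]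
    (hcl : IsIndConstructible (closure (Set.range ⇑f₀)))
    {X Y : Scheme.{u}} (f : X ⟶ Y) (g : Y ⟶ c.pt) (qY : Y ⟶ Y₀) (qX : X ⟶ X₀)
    (hY : IsPullback qY g g₀ (c.π.app i₀)) (hX : IsPullback qX f f₀ qY) :
    IsDominant f ↔ ∃ (j : I) (φ : j ⟶ i₀) (Xj Yj : Scheme.{u}) (fj : Xj ⟶ Yj) (gj : Yj ⟶ D.obj j)
      (pY : Yj ⟶ Y₀) (pX : Xj ⟶ X₀), IsPullback pY gj g₀ (D.map φ) ∧ IsPullback pX fj f₀ pY ∧
      IsDominant fj := by
  have : CompactSpace Y₀ := QuasiCompact.compactSpace_of_compactSpace g₀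
  have hpro : IsProConstructible (Set.range f₀) := isPro_range f₀
  -- the criterion for dominance
  have key : ∀ {W Z : Scheme.{u}} (p : W ⟶ Y₀) [Flat p] {q : Z ⟶ X₀} {r : Z ⟶ W} (_ : IsPullback q r f₀ p),
      IsDominant r ↔ p ⁻¹' (closure (Set.range f₀))ᶜ = ∅ := by
    intro W Z p _ q r h
    have h1 : closure (Set.range r) = p ⁻¹' closure (Set.range f₀) := by
      rw [FlatClosure.preimage_closure p hpro, range_snd h]
    rw [Set.preimage_compl, Set.compl_empty_iff, ← h1, ← dense_iff_closure_eq]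
    exact ⟨fun h => h.denseRange, fun h => ⟨h⟩⟩
  have hπ : Flat (c.π.app i₀) := FlatLim.flat_π hc i₀ fun j φ => hfl _ _ φ
  have hqY : Flat qY := MorphismProperty.of_isPullback hY.flip hπ
  constructor
  · intro hf
    obtain ⟨j, φ, hj⟩ := exists_stage_preimage_eq_empty hc g₀ (isPro_compl.mpr hcl) hY ((key qY hX).mp hf)
    have h2 : IsPullback (pullback.fst g₀ (D.map φ)) (pullback.snd g₀ (D.map φ)) g₀ (D.map φ) :=
      IsPullback.of_hasPullback _ _
    have h3 : IsPullback (pullback.fst f₀ (pullback.fst g₀ (D.map φ)))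
      (pullback.snd f₀ (pullback.fst g₀ (D.map φ))) f₀ (pullback.fst g₀ (D.map φ)) :=
      IsPullback.of_hasPullback _ _
    have := hfl _ _ φ
    have : Flat (pullback.fst g₀ (D.map φ)) := MorphismProperty.of_isPullback h2.flip this
    exact ⟨j, φ, _, _, _, _, _, _, h2, h3, (key _ h3).mpr (hj h2)⟩
  · rintro ⟨j, φ, Xj, Yj, fj, gj, pY, pX, h2, h3, hd⟩
    have := hfl _ _ φ
    have : Flat pY := MorphismProperty.of_isPullback h2.flip this
    rw [key pY h3] at hd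
    rw [key qY hX]
    have e : g ≫ c.π.app j ≫ D.map φ = g ≫ c.π.app i₀ := by rw [c.w]
    let k : Y ⟶ Yj := h2.lift qY (g ≫ c.π.app j) (by rw [hY.w, Category.assoc, e])
    have hk : k ≫ pY = qY := h2.lift_fst _ _ _
    have h4 : qY ⁻¹' (closure (Set.range f₀))ᶜ = k ⁻¹' (pY ⁻¹' (closure (Set.range f₀))ᶜ) := by
      rw [← Set.preimage_comp]
      congr 1
      rw [← hk]
      rfl
    rw [h4, hd, Set.preimage_empty]

end K116.Dominant
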