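import Groth.Agent.Lim8.K116.Range
import Groth.Agent.Ega4fib.H119.ProIndScheme

/-!
# Pro-constructible and ind-constructible subsets along a cofiltered limit

* `isPro_inter`: intersection of two pro-constructible subsets of a scheme.
* `exists_finset_iInter_eq_empty`: quasi-compactness of the constructible topology.
* `exists_preimage_eq_empty`: a pro-constructible subset of a quasi-compact stage whose preimage in the limit is
  empty has empty preimage in some stage.
* `exists_stage_subset`: the main statement on `E ⊆ F`.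
-/

set_option autoImplicit false
universe u

open CategoryTheory CategoryTheory.Limits AlgebraicGeometry

namespace K116.ProConsLim

open Groth.Agent.Ega4fib.H119.ProIndScheme Groth.Agent.Ega4fib.H119.ProInd ProCons

theorem isPro_inter {X : Scheme.{u}} {E F : Set X} (hE : IsProConstructible E) (hF : IsProConstructible F) :
    IsProConstructible (E ∩ F) :=
  isPro_iff_affineOpens.mpr fun U =>
    (isPro_iff_affineOpens.mp hE U).inter (isPro_iff_affineOpens.mp hF U)

theorem exists_finset_iInter_eq_empty (X : Scheme.{u}) [CompactSpace X] {ι : Type u} (F : ι → Set X)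
    (hF : ∀ i, IsProConstructible (F i)) (h : ⋂ i, F i = ∅) : ∃ J : Finset ι, ⋂ i ∈ J, F i = ∅ := by
  classical
  let 𝒰 := X.affineCover.finiteSubcover
  have key : ∀ k : 𝒰.I₀, ∃ J : Finset ι, ⋂ i ∈ J, ((𝒰.f k) ⁻¹' F i) ⊆ ∅ := by
    intro k
    have : IsAffine (𝒰.X k) := inferInstanceAs (IsAffine (X.affineCover.X _))
    refine exists_finset_iInter_subset (F := fun i => (𝒰.f k) ⁻¹' F i)
      (fun i => IsPro.interC_preimage (𝒰.f k) (hF i))
      (unionC_of_isConstructible Topology.IsConstructible.empty) ?_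
    rw [← Set.preimage_iInter, h, Set.preimage_empty]
  choose J hJ using key
  have : Finite 𝒰.I₀ := inferInstance
  let _ : Fintype 𝒰.I₀ := Fintype.ofFinite _
  refine ⟨Finset.univ.biUnion J, Set.eq_empty_of_forall_notMem ?_⟩
  intro x hx
  obtain ⟨k, y, rfl⟩ := 𝒰.exists_eq x
  refine hJ k (a := y) ?_
  simp only [Set.mem_iInter, Set.mem_preimage]
  intro i hi
  exact Set.mem_iInter₂.mp hx i (Finset.mem_biUnion.mpr ⟨k, Finset.mem_univ _, hi⟩)

variable {I : Type u} [SmallCategory I] [IsCofiltered I] {D : I ⥤ Scheme.{u}} {c : Cone D}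
  (hc : IsLimit c) [∀ (i j : I) (f : i ⟶ j), IsAffineHom (D.map f)] {i : I}

include hc in
/-- A pro-constructible subset of a quasi-compact stage whose preimage in the limit is
empty has empty preimage in some stage. -/
theorem exists_preimage_eq_empty [CompactSpace (D.obj i)] {E : Set (D.obj i)} (hE : IsProConstructible E)
    (h : ⇑(c.π.app i) ⁻¹' E = ∅) : ∃ (j : I) (φ : j ⟶ i), ⇑(D.map φ) ⁻¹' E = ∅ := by
  obtain ⟨B, g, rfl⟩ := exists_affine_range hE
  exact Range.exists_preimage_range_eq_empty hc g h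

omit [IsCofiltered I] in
variable (D) in
theorem compactSpace_obj [CompactSpace (D.obj i)] {j : I} (φ : j ⟶ i) : CompactSpace (D.obj j) :=
  QuasiCompact.compactSpace_of_compactSpace (D.map φ)

include hc in
theorem compactSpace_pt (i : I) [CompactSpace (D.obj i)] : CompactSpace c.pt := by
  have : ∀ {i j : I} (f : i ⟶ j), IsAffineHom (D.map f) := fun f => inferInstance
  have : IsAffineHom (c.π.app i) := isAffineHom_π_app D c hc i
  exact QuasiCompact.compactSpace_of_compactSpace (c.π.app i)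

include hc in
theorem exists_stage_subset (i₀ : I) [CompactSpace (D.obj i₀)] (E F : ∀ i : I, Set (D.obj i))
    (hE : ∀ i, IsProConstructible (E i)) (hF : ∀ i, IsIndConstructible (F i))
    (hEm : ∀ (i j : I) (φ : i ⟶ j), E i ⊆ ⇑(D.map φ) ⁻¹' E j)
    (hFm : ∀ (i j : I) (φ : i ⟶ j), ⇑(D.map φ) ⁻¹' F j ⊆ F i)
    (h : (⋂ i, ⇑(c.π.app i) ⁻¹' E i : Set c.pt) ⊆ (⋃ i, ⇑(c.π.app i) ⁻¹' F i : Set c.pt)) :
    ∃ (i : I) (_ : i ⟶ i₀), ∀ (j : I) (_ : j ⟶ i), E j ⊆ F j := by
  classical
  have : CompactSpace c.pt := compactSpace_pt hc i₀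
  obtain ⟨J, hJ⟩ := exists_finset_iInter_eq_empty c.pt
    (fun k : I ⊕ I => k.elim (fun i => ⇑(c.π.app i) ⁻¹' E i) (fun i => ⇑(c.π.app i) ⁻¹' (F i)ᶜ)) (by
      rintro (i | i)
      · exact isPro_preimage _ (hE i)
      · exact isPro_preimage _ (isPro_compl.mpr (hF i))) (by
      refine Set.eq_empty_of_forall_notMem fun x hx => ?_
      rw [Set.mem_iInter] at hx
      have h1 : x ∈ (⋂ i, ⇑(c.π.app i) ⁻¹' E i : Set c.pt) := Set.mem_iInter.mpr fun i => hx (Sum.inl i)
      obtain ⟨i, hi⟩ := Set.mem_iUnion.mp (h h1)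
      exact hx (Sum.inr i) hi)
  obtain ⟨j, hj⟩ := IsCofiltered.inf_objs_exists (insert i₀ (J.image (fun k : I ⊕ I => k.elim id id)))
  obtain ⟨φ₀⟩ : Nonempty (j ⟶ i₀) := hj (Finset.mem_insert_self _ _)
  have hj' : ∀ k ∈ J, Nonempty (j ⟶ k.elim id id) := fun k hk =>
    hj (Finset.mem_insert_of_mem (Finset.mem_image_of_mem _ hk))
  have : CompactSpace (D.obj j) := compactSpace_obj D φ₀
  obtain ⟨k, φ, hk⟩ := exists_preimage_eq_empty hc (i := j) (E := E j ∩ (F j)ᶜ)
    (isPro_inter (hE j) (isPro_compl.mpr (hF j))) (by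
      refine Set.eq_empty_of_forall_notMem fun x hx => ?_
      have h2 : x ∈ (⋂ k ∈ J, (fun k : I ⊕ I => k.elim (fun i => ⇑(c.π.app i) ⁻¹' E i)
          (fun i => ⇑(c.π.app i) ⁻¹' (F i)ᶜ)) k : Set c.pt) := by
        rw [Set.mem_iInter₂]
        rintro (i | i) hi
        · obtain ⟨ψ⟩ := hj' _ hi
          have ψ : j ⟶ i := ψ
          have h3 := hEm j i ψ hx.1
          change c.π.app i x ∈ E i
          rw [← c.w ψ, Scheme.Hom.comp_apply]
          exact h3
        · obtain ⟨ψ⟩ := hj' _ hi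
          have ψ : j ⟶ i := ψ
          intro h4
          change c.π.app i x ∈ F i at h4
          rw [← c.w ψ, Scheme.Hom.comp_apply] at h4
          exact hx.2 (hFm j i ψ h4)
      rw [hJ] at h2
      exact h2)
  refine ⟨k, φ ≫ φ₀, fun l ψ x hx => ?_⟩
  by_contra hx'
  have h5 : D.map ψ x ∈ ⇑(D.map φ) ⁻¹' (E j ∩ (F j)ᶜ) := by
    refine ⟨?_, fun h6 => hx' (hFm l j (ψ ≫ φ) ?_)⟩
    · rw [← Scheme.Hom.comp_apply, ← D.map_comp]
      exact hEm l j (ψ ≫ φ) hx
    · rw [Set.mem_preimage, D.map_comp, Scheme.Hom.comp_apply]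
      exact h6
  rw [hk] at h5
  exact h5

end K116.ProConsLim
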