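import Groth.Agent.Lim8.K116.FlatLim
import Groth.Agent.Lim8.K116.ProConsLim
import Groth.Agent.Grpsch.ClosureImage
import Mathlib.AlgebraicGeometry.Morphisms.UniversallyOpen

/-!
# Closure of pro-constructible subsets and flat preimages

* `exists_specializes_of_mem_closure`: a point in the closure of a pro-constructible subset is a specialization of a
  point of the subset.
* `preimage_closure`: for `f` flat and `E` pro-constructible, `f ⁻¹' closure E = closure (f ⁻¹' E)`.
-/

set_option autoImplicit false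
universe u

open CategoryTheory CategoryTheory.Limits AlgebraicGeometry

namespace K116.FlatClosure

open Groth.Agent.Ega4fib.H119.ProIndScheme Groth.Agent.Ega4fib.H119.ProInd ProCons

theorem exists_specializes_of_mem_closure {X : Scheme.{u}} {E : Set X} (hE : IsProConstructible E) {x : X}
    (hx : x ∈ closure E) : ∃ z ∈ E, z ⤳ x := by
  obtain ⟨V, hV, hxV, -⟩ := exists_isAffineOpen_mem_and_subset (x := x) (U := ⊤) trivial
  have hV' : IsAffine V := hV
  obtain ⟨B, g, hg⟩ := exists_affine_range_of_isAffine (X := V)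
    (isPro_preimage_of_isOpenEmbedding V.ι.isOpenEmbedding hE)
  have h1 : (⟨x, hxV⟩ : V) ∈ closure (g '' Set.univ) := by
    rw [Set.image_univ, hg, ← V.ι.isOpenEmbedding.isOpenMap.preimage_closure_eq_closure_preimage
      V.ι.continuous]
    exact hx
  obtain ⟨z, -, hz⟩ := Groth.Agent.Grpsch.ClosureImage.exists_specializes_of_mem_closure_image g
    isClosed_univ h1
  refine ⟨V.ι (g z), ?_, hz.map V.ι.continuous⟩
  have : g z ∈ V.ι ⁻¹' E := hg ▸ ⟨z, rfl⟩
  exact this

theorem preimage_closure {X Y : Scheme.{u}} (f : X ⟶ Y) [Flat f] {E : Set Y} (hE : IsProConstructible E) :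
    f ⁻¹' closure E = closure (f ⁻¹' E) := by
  refine subset_antisymm ?_ (f.continuous.closure_preimage_subset _)
  intro x hx
  obtain ⟨z, hz, hzx⟩ := exists_specializes_of_mem_closure hE hx
  obtain ⟨x', hx', e⟩ := Flat.generalizingMap f hzx
  refine hx'.mem_closed isClosed_closure (subset_closure ?_)
  change f x' ∈ E
  rw [e]
  exact hz

variable {I : Type u} [SmallCategory I] [IsCofiltered I] {D : I ⥤ Scheme.{u}} {c : Cone D}
  (hc : IsLimit c) [∀ (i j : I) (f : i ⟶ j), IsAffineHom (D.map f)]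

include hc in
theorem subset_iff (i₁ : I) [CompactSpace (D.obj i₁)] {E F : Set (D.obj i₁)}
    (hE : IsProConstructible E) (hF : IsIndConstructible F) :
    (⇑(c.π.app i₁) ⁻¹' E : Set c.pt) ⊆ ⇑(c.π.app i₁) ⁻¹' F ↔
      ∃ (j : I) (φ : j ⟶ i₁), ⇑(D.map φ) ⁻¹' E ⊆ ⇑(D.map φ) ⁻¹' F := by
  constructor
  · intro h
    obtain ⟨j, φ, hj⟩ := ProConsLim.exists_preimage_eq_empty hc (i := i₁) (E := E ∩ Fᶜ)
      (ProConsLim.isPro_inter hE (isPro_compl.mpr hF)) (by
        refine Set.eq_empty_of_forall_notMem fun x hx => hx.2 (h hx.1))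
    refine ⟨j, φ, fun x hx => ?_⟩
    by_contra hx'
    have : x ∈ ⇑(D.map φ) ⁻¹' (E ∩ Fᶜ) := ⟨hx, hx'⟩
    rw [hj] at this
    exact this
  · rintro ⟨j, φ, h⟩ x hx
    have h1 : c.π.app j x ∈ ⇑(D.map φ) ⁻¹' E := by
      rw [Set.mem_preimage, ← Scheme.Hom.comp_apply, c.w]
      exact hx
    have h2 := h h1
    rw [Set.mem_preimage, ← Scheme.Hom.comp_apply, c.w] at h2
    exact h2

include hc in
theorem preimage_subset_closure_iff (i₁ : I) [CompactSpace (D.obj i₁)]
    (hfl : ∀ (i j : I) (φ : i ⟶ j), Flat (D.map φ))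
    (Z' Z'' : Set (D.obj i₁)) (hZ' : IsProConstructible Z') (hZ'' : IsProConstructible Z'')
    (hcl : IsIndConstructible (closure Z')) :
    (⇑(c.π.app i₁) ⁻¹' Z'' : Set c.pt) ⊆ closure (⇑(c.π.app i₁) ⁻¹' Z' : Set c.pt) ↔
      ∃ (j : I) (φ : j ⟶ i₁), ⇑(D.map φ) ⁻¹' Z'' ⊆ closure (⇑(D.map φ) ⁻¹' Z') := by
  have : Flat (c.π.app i₁) := FlatLim.flat_π hc i₁ fun j φ => hfl _ _ φ
  rw [← preimage_closure (c.π.app i₁) hZ', subset_iff hc i₁ hZ'' hcl]
  refine exists_congr fun j => exists_congr fun φ => ?_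
  have := hfl _ _ φ
  rw [← preimage_closure (D.map φ) hZ']

end K116.FlatClosure
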