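import Mathlib.AlgebraicGeometry.AffineTransitionLimit
import Mathlib.AlgebraicGeometry.Morphisms.Flat
import Mathlib.RingTheory.Flat.EquationalCriterion
import Mathlib.RingTheory.RingHom.Flat

/-!
# Projections from a cofiltered limit of schemes with affine flat transition maps are flat

* `flat_ι`: filtered colimit of rings, the maps `F j₀ ⟶ F j` flat; then `F j₀ ⟶ colim F` is flat.
* `flat_π`: the scheme version.
-/

set_option autoImplicit false
universe u

open CategoryTheory CategoryTheory.Limits AlgebraicGeometry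

namespace K116.FlatLim

section Ring

variable {J : Type u} [SmallCategory J] [IsFiltered J] {F : J ⥤ CommRingCat.{u}}
  {c : Cocone F} (hc : IsColimit c)

include hc

lemma exists_rep (x : c.pt) : ∃ (j : J) (y : F.obj j), (c.ι.app j).hom y = x := by
  have hc' := isColimitOfPreserves (forget _) hc
  obtain ⟨j, y, h⟩ := Types.jointly_surjective_of_isColimit hc' x
  exact ⟨j, y, h⟩

lemma exists_map_eq {j : J} (x y : F.obj j) (h : (c.ι.app j).hom x = (c.ι.app j).hom y) :
    ∃ (k : J) (f : j ⟶ k), (F.map f).hom x = (F.map f).hom y := by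
  have hc' := isColimitOfPreserves (forget _) hc
  obtain ⟨k, f, g, h⟩ := (Types.FilteredColimit.isColimit_eq_iff _ hc' (xi := x) (xj := y)).mp h
  refine ⟨IsFiltered.coeq f g, f ≫ IsFiltered.coeqHom f g, ?_⟩
  have h' : (F.map f).hom x = (F.map g).hom y := h
  have e2 : (F.map (f ≫ IsFiltered.coeqHom f g)).hom y = (F.map (g ≫ IsFiltered.coeqHom f g)).hom y := by
    rw [IsFiltered.coeq_condition f g]
  rw [e2, F.map_comp, F.map_comp]
  exact congrArg (F.map (IsFiltered.coeqHom f g)).hom h'

/-- finite families of elements lift to a common stage -/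
lemma exists_rep_finite {ι : Type*} [Finite ι] (x : ι → c.pt) :
    ∃ (j : J) (y : ι → F.obj j), ∀ i, (c.ι.app j).hom (y i) = x i := by
  classical
  have := Fintype.ofFinite ι
  choose j y hy using fun i => exists_rep hc (x i)
  obtain ⟨s, hs⟩ := IsFiltered.sup_objs_exists (Finset.univ.image j)
  let f : ∀ i, j i ⟶ s := fun i => (hs (Finset.mem_image_of_mem j (Finset.mem_univ i))).some
  refine ⟨s, fun i => (F.map (f i)).hom (y i), fun i => ?_⟩
  rw [← hy i]
  exact congr(($(c.w (f i))).hom (y i))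

theorem flat_ι (j₀ : J) (h : ∀ (j : J) (f : j₀ ⟶ j), (F.map f).hom.Flat) : (c.ι.app j₀).hom.Flat := by
  algebraize [(c.ι.app j₀).hom]
  refine Module.Flat.of_forall_isTrivialRelation ?_
  intro l f x hfx
  obtain ⟨j, x', hx'⟩ := exists_rep_finite hc x
  let m := IsFiltered.max j₀ j
  let a := IsFiltered.leftToMax j₀ j
  let b := IsFiltered.rightToMax j₀ j
  have hwa : ∀ y, (c.ι.app m).hom ((F.map a).hom y) = (c.ι.app j₀).hom y := fun y =>
    congr(($(c.w a)).hom y)
  have hwb : ∀ y, (c.ι.app m).hom ((F.map b).hom y) = (c.ι.app j).hom y := fun y =>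
    congr(($(c.w b)).hom y)
  obtain ⟨n, t, ht⟩ := exists_map_eq hc (j := m) (∑ i, (F.map a).hom (f i) * (F.map b).hom (x' i)) 0 (by
    rw [map_zero, map_sum]
    simp only [map_mul, hwa, hwb, hx']
    exact hfx)
  have hrel : ∑ i, (F.map (a ≫ t)).hom (f i) * (F.map (b ≫ t)).hom (x' i) = 0 := by
    rw [map_zero, map_sum] at ht
    simpa using ht
  have hfl := h n (a ≫ t)
  algebraize [(F.map (a ≫ t)).hom]
  obtain ⟨k, α, y, h1, h2⟩ := Module.Flat.isTrivialRelation_of_sum_smul_eq_zero (R := F.obj j₀)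
    (M := F.obj n) (f := f) (x := fun i => (F.map (b ≫ t)).hom (x' i)) hrel
  have hwn : ∀ y, (c.ι.app n).hom ((F.map (a ≫ t)).hom y) = (c.ι.app j₀).hom y := fun y =>
    congr(($(c.w (a ≫ t))).hom y)
  refine ⟨k, α, fun j => (c.ι.app n).hom (y j), fun i => ?_, h2⟩
  have h3 : x i = (c.ι.app n).hom ((F.map (b ≫ t)).hom (x' i)) := by
    rw [← hx']
    exact congr(($(c.w (b ≫ t))).hom (x' i)).symm
  rw [h3]
  have h4 := congrArg (c.ι.app n).hom (h1 i)
  rw [h4, map_sum]
  refine Finset.sum_congr rfl fun j _ => ?_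
  refine (map_mul (c.ι.app n).hom ((F.map (a ≫ t)).hom (α i j)) (y j)).trans ?_
  exact congrArg (fun z : c.pt => @HMul.hMul c.pt c.pt c.pt _ z ((c.ι.app n).hom (y j))) (hwn (α i j))

end Ring

variable {I : Type u} [SmallCategory I] [IsCofiltered I] {D : I ⥤ Scheme.{u}} {c : Cone D}
  (hc : IsLimit c) [∀ (i j : I) (f : i ⟶ j), IsAffineHom (D.map f)]

include hc in
theorem flat_π_of_isAffine [∀ i, IsAffine (D.obj i)] (i : I) (hf : ∀ (j : I) (φ : j ⟶ i), Flat (D.map φ)) :
    Flat (c.π.app i) := by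
  have : IsAffine c.pt := Scheme.isAffine_of_isLimit _ hc
  have : ∀ {i j : I} (f : i ⟶ j), IsAffineHom (D.map f) := fun f => inferInstance
  obtain ⟨hΓ⟩ := nonempty_isColimit_Γ_mapCocone D c hc
  have key : ((c.π.app i).appTop).hom.Flat := flat_ι hΓ (Opposite.op i) fun j f =>
    (HasRingHomProperty.iff_of_isAffine (P := @Flat) (f := D.map f.unop)).mp (hf j.unop f.unop)
  exact (HasRingHomProperty.iff_of_isAffine (P := @Flat) (X := c.pt) (Y := D.obj i)).mpr key

set_option backward.isDefEq.respectTransparency false in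
include hc in
theorem flat_π (i : I) (hf : ∀ (j : I) (φ : j ⟶ i), Flat (D.map φ)) : Flat (c.π.app i) := by
  have hA : ∀ {i j : I} (f : i ⟶ j), IsAffineHom (D.map f) := fun f => inferInstance
  rw [IsZariskiLocalAtTarget.iff_of_iSup_eq_top (P := @Flat) _ (iSup_affineOpens_eq_top (D.obj i))]
  intro V
  let E := opensDiagram D i V.1
  let cE : Cone E := opensCone D c i V.1
  have hcE : IsLimit cE := isLimitOpensCone D c hc i V.1
  have h1 : ∀ j : Over i, IsAffine (E.obj j) := fun j => V.2.preimage (D.map j.hom)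
  have h2 : ∀ (j k : Over i) (f : j ⟶ k), IsAffineHom (E.map f) := fun j k f => inferInstance
  have h3 : Flat (cE.π.app (Over.mk (𝟙 i))) := by
    refine flat_π_of_isAffine hcE _ fun j φ => ?_
    have : Flat (D.map φ.left) := hf j.left φ.left
    change Flat ((D.map φ.left).resLE _ _ _)
    infer_instance
  have h4 : Flat ((D.map (𝟙 i)) ∣_ V.1) := by
    rw [D.map_id]
    infer_instance
  have h5 : c.π.app i ∣_ V.1 = cE.π.app (Over.mk (𝟙 i)) ≫ ((D.map (𝟙 i)) ∣_ V.1) := by
    rw [← cancel_mono (V.1.ι)]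
    simp [E, cE]
  rw [h5]
  infer_instance

end K116.FlatLim
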