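import Groth.Agent.PerfB.LimMod
import Mathlib.RingTheory.TensorProduct.DirectLimitFG

/-!
# Homs between pullbacks of quasi-coherent modules which agree in the limit agree at a stage

Generalises `PerfB.LimMod.exists_eq`: the source only of finite type, the target only quasi-coherent.
-/

set_option autoImplicit false
universe u v w
open CategoryTheory CategoryTheory.Limits AlgebraicGeometry Opposite TopologicalSpace
open scoped TensorProduct

namespace K116.ModLim

open Groth.Agent.PerfB Groth.Agent.PerfB.HomLim Groth.Agent.PerfB.PushPull Groth.Agent.PerfB.FiltSec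
open Groth.Agent.Flat2F.BCSec Groth.Agent.VarietyB.PullSec Groth.Agent.CohqB.HomSheaf
open Groth.Agent

section Algebra

variable {R A M Q : Type*} [CommRing R] [CommRing A] [Algebra R A] [AddCommGroup M] [Module R M]
  [AddCommGroup Q] [Module R Q] [Module A Q] [IsScalarTower R A Q]

/-- Equational criterion for the vanishing of an element of `A ⊗ M`, for arbitrary `M`. -/
theorem vanish (f : M →ₗ[R] Q) (hf : IsBaseChange A f) {n : ℕ} (m : Fin n → M)
    (r : Fin n → A) (h : ∑ i, r i • f (m i) = 0) :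
    ∃ (p q : ℕ) (m' : Fin p → M) (b : Fin n → Fin p → R) (a : Fin p → Fin q → R) (y : Fin q → A),
      (∀ i, m i = ∑ l, b i l • m' l) ∧ (∀ l, ∑ i, b i l • r i = ∑ j, a l j • y j) ∧
        ∀ j, ∑ l, a l j • m' l = 0 := by
  classical
  have h0 : ∑ i, m i ⊗ₜ[R] r i = 0 := by
    apply (TensorProduct.comm R M A).injective
    apply hf.equiv.injective
    rw [map_zero, map_zero, ← h]
    simp [map_sum]
  let P : Submodule R M := Submodule.span R (Set.range m)
  have hP : ∀ i, m i ∈ P := fun i => Submodule.subset_span ⟨i, rfl⟩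
  have hPfg : P.FG := Submodule.fg_span (Set.finite_range m)
  let t : P ⊗[R] A := ∑ i, (⟨m i, hP i⟩ : P) ⊗ₜ[R] r i
  have ht : LinearMap.rTensor A P.subtype t = 0 := by
    simpa [t, map_sum] using h0
  obtain ⟨Q', hPQ, hQ', ht'⟩ := TensorProduct.eq_zero_of_fg_of_subtype_eq_zero hPfg ht
  have ht'' : ∑ i, (⟨m i, hPQ (hP i)⟩ : Q') ⊗ₜ[R] r i = 0 := by
    rw [← ht']
    simp only [t, map_sum, LinearMap.rTensor_tmul]
    rfl
  have : Module.Finite R Q' := Module.Finite.iff_fg.mpr hQ'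
  obtain ⟨p, m', hm'⟩ := Module.Finite.exists_fin (R := R) (M := Q')
  have hb : ∀ i, ∃ c : Fin p → R, ∑ l, c l • m' l = (⟨m i, hPQ (hP i)⟩ : Q') := fun i =>
    (Submodule.mem_span_range_iff_exists_fun R).mp (hm' ▸ Submodule.mem_top)
  choose b hb using hb
  have h1 : ∑ l, m' l ⊗ₜ[R] (∑ i, b i l • r i) = 0 := by
    rw [← ht'']
    simp only [← hb, TensorProduct.sum_tmul, TensorProduct.tmul_sum]
    rw [Finset.sum_comm]
    refine Finset.sum_congr rfl fun i _ => Finset.sum_congr rfl fun l _ => ?_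
    rw [TensorProduct.smul_tmul]
  obtain ⟨q, a, y, h2, h3⟩ := TensorProduct.vanishesTrivially_of_sum_tmul_eq_zero R hm' h1
  refine ⟨p, q, fun l => (m' l : M), b, a, y, fun i => ?_, h2, fun j => ?_⟩
  · have := congrArg (Submodule.subtype Q') (hb i)
    simp only [map_sum, map_smul, Submodule.subtype_apply] at this
    exact this.symm
  · have := congrArg (Submodule.subtype Q') (h3 j)
    simpa only [map_sum, map_smul, Submodule.subtype_apply, map_zero] using this

end Algebra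

section Sec

variable {X Y : Scheme.{u}} (q : X ⟶ Y) {E : Y.Modules}

theorem vanish_sec (hE : Coh.IsQCoh E) {V : Y.Opens} {W : X.Opens} (e : W ≤ q ⁻¹ᵁ V)
    (hV : IsAffineOpen V) (hW : IsAffineOpen W) {n : ℕ} (m : Fin n → Γ(E, V)) (r : Fin n → Γ(X, W))
    (h : ∑ i, r i • sec q E e (m i) = 0) :
    ∃ (p k : ℕ) (m' : Fin p → Γ(E, V)) (b : Fin n → Fin p → Γ(Y, V)) (a : Fin p → Fin k → Γ(Y, V))
      (y : Fin k → Γ(X, W)), (∀ i, m i = ∑ l, b i l • m' l) ∧
      (∀ l, ∑ i, q.appLE V W e (b i l) * r i = ∑ j, q.appLE V W e (a l j) * y j) ∧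
      ∀ j, ∑ l, a l j • m' l = 0 := by
  let j1 : Algebra Γ(Y, V) Γ(X, W) := (q.appLE V W e).hom.toAlgebra
  let j2 := secModule q E e
  have j3 : IsScalarTower Γ(Y, V) Γ(X, W) Γ((Scheme.Modules.pullback q).obj E, W) :=
    ⟨fun a b c => by rw [Algebra.smul_def, mul_smul]; rfl⟩
  obtain ⟨p, k, m', b, a, y, h1, h2, h3⟩ := vanish (secₗ q E e) (isBaseChange_secₗ q E e hE hV hW) m r h
  refine ⟨p, k, m', b, a, y, h1, fun l => ?_, h3⟩
  have := h2 l
  simp only [Algebra.smul_def] at this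
  exact this

end Sec

variable {Y : Scheme.{u}} {J : Type v} [Category.{w} J] [IsFiltered J] {Z : Jᵒᵖ ⥤ Over Y}
  {c : Cone Z} (hc : IsLim c) {G E : Y.Modules}

/-- every section of the pullback over the preimage of an affine open is a combination of pulled back sections -/
theorem exists_sum_sec {X Y : Scheme.{u}} (q : X ⟶ Y) {E : Y.Modules} (hE : Coh.IsQCoh E) {V : Y.Opens}
    {W : X.Opens} (e : W ≤ q ⁻¹ᵁ V) (hV : IsAffineOpen V) (hW : IsAffineOpen W)
    (t : Γ((Scheme.Modules.pullback q).obj E, W)) :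
    ∃ (n : ℕ) (m : Fin n → Γ(E, V)) (r : Fin n → Γ(X, W)), ∑ i, r i • sec q E e (m i) = t := by
  have h1 := span_sec' q hE e hV hW (id : Γ(E, V) → Γ(E, V)) (by simp)
  have h2 : t ∈ Submodule.span Γ(X, W) (Set.range fun i => sec q E e (id i)) := by
    rw [h1]; exact Submodule.mem_top
  obtain ⟨c, hc, hs⟩ := (Finsupp.mem_span_range_iff_exists_finsupp).mp h2
  obtain ⟨s, rfl⟩ : ∃ s : Finset Γ(E, V), s = c.support := ⟨_, rfl⟩
  refine ⟨c.support.card, fun i => (c.support.equivFin.symm i).1, fun i => c (c.support.equivFin.symm i).1, ?_⟩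
  rw [Finsupp.sum]
  rw [← Finset.sum_coe_sort c.support]
  exact (Equiv.sum_comp c.support.equivFin.symm (fun i : c.support => c i.1 • sec q E e (id i.1)))

include hc in
theorem exists_tr_tt (hE : Coh.IsQCoh E) {V : Y.Opens} (hV : IsAffineOpen V) (j : J)
    (t : Γ((Scheme.Modules.pullback (pr Z j)).obj E, pr Z j ⁻¹ᵁ V))
    (ht : tr (qq c j) _ _ (qq_pr c j) E (preimage_le (qq_pr c j) V) t = 0) :
    ∃ (k : J) (f : j ⟶ k), tr (tt Z f) _ _ (tt_pr Z f) E (preimage_le (tt_pr Z f) V) t = 0 := by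
  have := hc.affine'
  have := hc.affine j
  have hW : IsAffineOpen (c.pt.hom ⁻¹ᵁ V) := hV.preimage _
  have hWj : IsAffineOpen (pr Z j ⁻¹ᵁ V) := hV.preimage _
  obtain ⟨n, m, r, hr⟩ := exists_sum_sec (pr Z j) hE (le_refl (pr Z j ⁻¹ᵁ V)) hV hWj t
  have h2 : ∑ i, (qq c j).appLE _ _ (preimage_le (qq_pr c j) V) (r i) •
      sec c.pt.hom E (le_refl (c.pt.hom ⁻¹ᵁ V)) (m i) = 0 := by
    rw [← ht, ← hr, map_sum]
    refine Finset.sum_congr rfl fun i _ => ?_
    rw [tr_smul, tr_sec _ _ _ _ _ _ _ (le_refl (c.pt.hom ⁻¹ᵁ V))]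
  obtain ⟨p, q, m', b, a, y, hm, hry, ha⟩ :=
    vanish_sec c.pt.hom hE (le_refl (c.pt.hom ⁻¹ᵁ V)) hV hW m _ h2
  obtain ⟨k, f, y', hy'⟩ := exists_lift hc hV j y
  obtain ⟨l, g, hl⟩ := exists_kill hc hV k (fun i =>
    ∑ i', (pr Z k).appLE V _ le_rfl (b i' i) * (tt Z f).appLE _ _ (preimage_le (tt_pr Z f) V) (r i') -
      ∑ i', (pr Z k).appLE V _ le_rfl (a i i') * y' i') (fun i => by
    rw [map_sub, map_sum, map_sum, sub_eq_zero]
    simp only [map_mul, appLE_tt_qq, appLE_qq_pr, hy', hry])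
  refine ⟨l, f ≫ g, ?_⟩
  have h3 : ∀ i, ∑ i', (pr Z l).appLE V _ le_rfl (b i' i) *
        (tt Z (f ≫ g)).appLE _ _ (preimage_le (tt_pr Z (f ≫ g)) V) (r i') =
      ∑ i', (pr Z l).appLE V _ le_rfl (a i i') *
        (tt Z g).appLE _ _ (preimage_le (tt_pr Z g) V) (y' i') := by
    intro i
    have h4 := hl i
    rw [map_sub, sub_eq_zero, map_sum, map_sum] at h4
    simpa only [map_mul, appLE_tt_tt, appLE_tt_pr] using h4
  have h5 : ∀ i, tr (tt Z (f ≫ g)) _ _ (tt_pr Z _) E (preimage_le (tt_pr Z _) V)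
      (r i • sec (pr Z j) E (le_refl (pr Z j ⁻¹ᵁ V)) (m i)) =
      ∑ i', ((pr Z l).appLE V _ le_rfl (b i i') *
        (tt Z (f ≫ g)).appLE _ _ (preimage_le (tt_pr Z (f ≫ g)) V) (r i)) •
        sec (pr Z l) E (le_refl (pr Z l ⁻¹ᵁ V)) (m' i') := by
    intro i
    rw [tr_smul, tr_sec _ _ _ _ _ _ _ (le_refl (pr Z l ⁻¹ᵁ V)), hm i, map_sum, Finset.smul_sum]
    refine Finset.sum_congr rfl fun i' _ => ?_
    rw [sec_smul, ← mul_smul, mul_comm]
  rw [← hr, map_sum]
  simp only [h5]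
  rw [Finset.sum_comm]
  simp only [← Finset.sum_smul, h3]
  simp only [Finset.sum_smul]
  rw [Finset.sum_comm]
  refine Finset.sum_eq_zero fun i' _ => ?_
  have h6 : ∑ i, (pr Z l).appLE V _ le_rfl (a i i') • sec (pr Z l) E (le_refl (pr Z l ⁻¹ᵁ V)) (m' i) = 0 := by
    simp only [← sec_smul]
    rw [← map_sum, ha, map_zero]
  calc _ = (tt Z g).appLE _ _ (preimage_le (tt_pr Z g) V) (y' i') •
        ∑ i, (pr Z l).appLE V _ le_rfl (a i i') • sec (pr Z l) E (le_refl (pr Z l ⁻¹ᵁ V)) (m' i) := by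
        rw [Finset.smul_sum]
        refine Finset.sum_congr rfl fun i _ => ?_
        rw [← mul_smul, mul_comm]
    _ = 0 := by rw [h6, smul_zero]

include hc in
theorem injAt_T (hE : Coh.IsQCoh E) {V : Y.Opens} (hV : IsAffineOpen V) : InjAt (cT c E) V := by
  intro j t ht
  obtain ⟨k, f, h⟩ := exists_tr_tt hc hE hV j t ((leg_app V j t).symm.trans ht)
  exact ⟨k, f, (T_app V f t).trans h⟩

end K116.ModLim
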