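import Groth.Agent.Lim8.K116.ModLim2
import Groth.Agent.Lim8.K116.FlatLim
import Groth.Agent.PerfA.QCohSerre
import Groth.Agent.PerfB.FlatPull

/-!
# Surjectivity and injectivity of homs of quasi-coherent modules in the limit

* `epi_iff`, `mono_iff`: `g^* f` is an epimorphism iff `g^*` kills `cokernel.π f`; for `g` flat it is a
  monomorphism iff `g^*` kills `kernel.ι f`.
* `epi_iff_eventually`, `mono_iff_eventually`.
-/

set_option autoImplicit false
universe u v w
open CategoryTheory CategoryTheory.Limits AlgebraicGeometry Opposite TopologicalSpace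

namespace K116.ModLim

open Groth.Agent

section

variable {X Y : Scheme.{u}} (g : X ⟶ Y) {F G : Y.Modules} (f : F ⟶ G)

theorem epi_iff : Epi ((Scheme.Modules.pullback g).map f) ↔
    (Scheme.Modules.pullback g).map (cokernel.π f) = (Scheme.Modules.pullback g).map 0 := by
  rw [Functor.map_zero]
  have h := PreservesCokernel.π_iso_hom (Scheme.Modules.pullback g) f
  constructor
  · intro h1
    rw [cokernel.π_of_epi ((Scheme.Modules.pullback g).map f)] at h
    rw [← cancel_mono (PreservesCokernel.iso (Scheme.Modules.pullback g) f).hom, h, zero_comp]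
  · intro h1
    rw [h1, zero_comp] at h
    exact Abelian.epi_of_cokernel_π_eq_zero _ h.symm

theorem mono_iff [Flat g] : Mono ((Scheme.Modules.pullback g).map f) ↔
    (Scheme.Modules.pullback g).map (kernel.ι f) = (Scheme.Modules.pullback g).map 0 := by
  rw [Functor.map_zero]
  have h := PreservesKernel.iso_inv_ι (Scheme.Modules.pullback g) f
  constructor
  · intro h1
    rw [kernel.ι_of_mono ((Scheme.Modules.pullback g).map f)] at h
    rw [← cancel_epi (PreservesKernel.iso (Scheme.Modules.pullback g) f).inv, h, comp_zero]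
  · intro h1
    rw [h1, comp_zero] at h
    exact Abelian.mono_of_kernel_ι_eq_zero _ h.symm

end

variable {I : Type u} [SmallCategory I] [IsCofiltered I] {D : I ⥤ Scheme.{u}} {c : Cone D}
  [∀ {i j : I} (f : i ⟶ j), IsAffineHom (D.map f)] (hc : IsLimit c) {i : I}
  {F G : (D.obj i).Modules} [CompactSpace (D.obj i)]

include hc in
/-- A hom of quasi-coherent modules with target of finite type is an epimorphism in the limit iff it is one at a
stage. -/
theorem epi_iff_eventually (hF : Coh.IsQCoh F) (hG : Coh.IsQCoh G) (hG' : CohB1.IsFT G) (f : F ⟶ G) :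
    Epi ((Scheme.Modules.pullback (c.π.app i)).map f) ↔
      ∃ (j : I) (a : j ⟶ i), Epi ((Scheme.Modules.pullback (D.map a)).map f) := by
  rw [epi_iff, map_eq_iff hc hG hG' (PerfA.QCohSerre.isQCoh_cokernel f hF hG)]
  simp_rw [epi_iff]

include hc in
/-- A hom of quasi-coherent modules with kernel of finite type is a monomorphism in a limit with flat transition
maps iff it is one at a stage. -/
theorem mono_iff_eventually (hfl : ∀ (j : I) (a : j ⟶ i), Flat (D.map a)) (hF : Coh.IsQCoh F)
    (hG : Coh.IsQCoh G) (f : F ⟶ G) (hK : CohB1.IsFT (kernel f)) :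
    Mono ((Scheme.Modules.pullback (c.π.app i)).map f) ↔
      ∃ (j : I) (a : j ⟶ i), Mono ((Scheme.Modules.pullback (D.map a)).map f) := by
  have : Flat (c.π.app i) := K116.FlatLim.flat_π hc i hfl
  rw [mono_iff, map_eq_iff hc (PerfA.QCohSerre.isQCoh_kernel f hF hG) hK hF]
  refine exists_congr fun j => exists_congr fun a => ?_
  have := hfl j a
  exact (mono_iff _ _).symm

end K116.ModLim
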