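import Groth.Agent.Lim8.K116.ModLim3
import Groth.Agent.Smoothlim.ModKer
import Groth.Agent.CohqA.FinSec
import Groth.Agent.Desc.FPSections
import Groth.Agent.FormalB.QcSect
import Groth.Agent.FormalA.PullbackQC

/-!
# Isomorphisms of quasi-coherent modules in the limit

* `isFT_kernel`: the kernel of an epimorphism from a quasi-coherent module of finite type onto one of finite
  presentation is of finite type.
* `isIso_iff_eventually`.
-/

set_option autoImplicit false
universe u v w
open CategoryTheory CategoryTheory.Limits AlgebraicGeometry Opposite TopologicalSpace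

namespace K116.ModLim

open Groth.Agent Groth.Agent.PerfB.PushPull Groth.Agent.Flat2F.BCSec

section

variable {X : Scheme.{u}} {M N : X.Modules}

/-- The action of a hom of modules on sections, as a linear map. -/
noncomputable def appL (f : M ⟶ N) (U : X.Opens) : Γ(M, U) →ₗ[Γ(X, U)] Γ(N, U) where
  toFun x := f.app U x
  map_add' x y := map_add (f.app U).hom x y
  map_smul' r x := Scheme.Modules.Hom.app_smul f r x

/-- The kernel of an epimorphism from a quasi-coherent module of finite type onto a quasi-coherent module of finite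
presentation is of finite type. -/
theorem isFT_kernel (f : M ⟶ N) [Epi f] (hM : Coh.IsQCoh M) (hM' : CohB1.IsFT M) (hN : Coh.IsQCoh N)
    (hN' : CohB1.IsFP N) : CohB1.IsFT (kernel f) := by
  refine CohqA.FinSec.isFT_of_finite (PerfA.QCohSerre.isQCoh_kernel f hM hN) fun x => ?_
  obtain ⟨U, hU, hx, -⟩ := exists_isAffineOpen_mem_and_subset (x := x) (U := ⊤) trivial
  refine ⟨U, hU, hx, ?_⟩
  have := CohqA.FinSec.finite_sections hU hM hM'
  have := Desc.FPSections.finitePresentation_sections hU hN hN'
  have : M.IsQuasicoherent := hM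
  have : N.IsQuasicoherent := hN
  have h1 : Function.Surjective (appL f U) := FormalB.QcSect.surjective_app_of_epi f hU
  have hfg : (LinearMap.ker (appL f U)).FG := Module.FinitePresentation.fg_ker _ h1
  have hinj : Function.Injective (appL (kernel.ι f) U) :=
    Smoothlim.ModKer.app_injective_of_mono (kernel.ι f) U
  have hr : LinearMap.range (appL (kernel.ι f) U) = LinearMap.ker (appL f U) := by
    ext y
    constructor
    · rintro ⟨z, rfl⟩
      exact congr(($(kernel.condition f)).app U z)
    · intro hy
      exact Smoothlim.ModKer.exists_of_app_eq_zero f U y hy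
  rw [← hr] at hfg
  have : Module.Finite Γ(X, U) (LinearMap.range (appL (kernel.ι f) U)) := Module.Finite.iff_fg.mpr hfg
  exact Module.Finite.equiv (LinearEquiv.ofInjective (appL (kernel.ι f) U) hinj).symm

end

theorem isFT_of_isFP {X : Scheme.{u}} {M : X.Modules} (h : CohB1.IsFP M) : CohB1.IsFT M := by
  have : SheafOfModules.IsFinitePresentation (R := X.ringCatSheaf) M := h
  exact (inferInstance : SheafOfModules.IsFiniteType (R := X.ringCatSheaf) M)

theorem isIso_map_iff_comp {X W W' : Scheme.{u}} {E G : X.Modules} (k : W' ⟶ W) (a : W ⟶ X) (a' : W' ⟶ X)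
    (h : k ≫ a = a') (φ : G ⟶ E) :
    IsIso ((Scheme.Modules.pullback k).map ((Scheme.Modules.pullback a).map φ)) ↔
      IsIso ((Scheme.Modules.pullback a').map φ) := by
  rw [← pull_map k a a' h φ, pull, isIso_comp_left_iff, isIso_comp_right_iff]

/-- A right exact functor which kills the kernel of an epimorphism maps it to an isomorphism. -/
theorem isIso_map_of_kernel {X Y : Scheme.{u}} (g : X ⟶ Y) {F G : Y.Modules} (f : F ⟶ G) [Epi f]
    (h : (Scheme.Modules.pullback g).map (kernel.ι f) = 0) :
    IsIso ((Scheme.Modules.pullback g).map f) := by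
  let S : ShortComplex Y.Modules := ShortComplex.mk (kernel.ι f) f (kernel.condition f)
  have hS : S.Exact := ShortComplex.exact_of_f_is_kernel _ (kernelIsKernel f)
  have h1 : (S.map (Scheme.Modules.pullback g)).Exact :=
    hS.map_of_epi_of_preservesCokernel _ (inferInstanceAs (Epi f)) inferInstance
  have h2 : Mono ((Scheme.Modules.pullback g).map f) := h1.mono_g h
  exact isIso_of_mono_of_epi _

variable {I : Type u} [SmallCategory I] [IsCofiltered I] {D : I ⥤ Scheme.{u}} {c : Cone D}
  [∀ {i j : I} (f : i ⟶ j), IsAffineHom (D.map f)] (hc : IsLimit c) {i : I}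
  {F G : (D.obj i).Modules} [CompactSpace (D.obj i)]

include hc in
/-- A hom from a quasi-coherent module of finite type to one of finite presentation is an isomorphism in the limit
iff it is one at a stage. -/
theorem isIso_iff_eventually (hF : Coh.IsQCoh F) (hF' : CohB1.IsFT F) (hG : Coh.IsQCoh G) (hG' : CohB1.IsFP G)
    (f : F ⟶ G) :
    IsIso ((Scheme.Modules.pullback (c.π.app i)).map f) ↔
      ∃ (j : I) (a : j ⟶ i), IsIso ((Scheme.Modules.pullback (D.map a)).map f) := by
  constructor
  · intro h
    obtain ⟨j, a, hj⟩ := (epi_iff_eventually hc hF hG (isFT_of_isFP hG') f).mp inferInstance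
    have hFj := FormalA.PullbackQC.isQCoh_pullback (D.map a) F hF
    have hGj := FormalA.PullbackQC.isQCoh_pullback (D.map a) G hG
    have hK := isFT_kernel ((Scheme.Modules.pullback (D.map a)).map f) hFj
      (FormalA.PullbackQC.isFT_pullback (D.map a) F hF') hGj
      (FormalA.PullbackQC.isFP_pullback (D.map a) G hG')
    have hK' := PerfA.QCohSerre.isQCoh_kernel ((Scheme.Modules.pullback (D.map a)).map f) hFj hGj
    have h1 : IsIso ((Scheme.Modules.pullback (c.π.app j)).map ((Scheme.Modules.pullback (D.map a)).map f)) :=
      (isIso_map_iff_comp _ _ _ (c.w a) f).mpr h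
    have h2 : (Scheme.Modules.pullback (c.π.app j)).map
        (kernel.ι ((Scheme.Modules.pullback (D.map a)).map f)) = 0 := by
      rw [← cancel_mono ((Scheme.Modules.pullback (c.π.app j)).map ((Scheme.Modules.pullback (D.map a)).map f)),
        ← Functor.map_comp, kernel.condition, Functor.map_zero, zero_comp]
    have : CompactSpace (D.obj j) := QuasiCompact.compactSpace_of_compactSpace (D.map a)
    obtain ⟨k, b, hk⟩ := (map_eq_iff hc hK' hK hFj
      (kernel.ι ((Scheme.Modules.pullback (D.map a)).map f)) 0).mp (by rw [h2, Functor.map_zero])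
    rw [Functor.map_zero] at hk
    exact ⟨k, b ≫ a, (isIso_map_iff_comp _ _ _ (D.map_comp b a).symm f).mp (isIso_map_of_kernel _ _ hk)⟩
  · rintro ⟨j, a, h⟩
    exact (isIso_map_iff_comp _ _ _ (c.w a) f).mp inferInstance

end K116.ModLim
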