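import Groth.Agent.Lim8.K116.ZmtBir
import Groth.Agent.Dix.NormalSec
import Groth.Agent.CurvesA.NormFinite

/-!
# The relative normalization of a scheme in a normal integral scheme

`f : X ⟶ Y` dominant, `X`, `Y` integral, `X` normal.
* `isIntegrallyClosed_stalk`: `f.normalization` is normal.
* `isIso_stalkMap`: if `f` is locally quasi-finite then `f.toNormalization` is birational.
* `isLocalIso_toNormalization`.
-/

set_option autoImplicit false
universe u v w
open CategoryTheory CategoryTheory.Limits AlgebraicGeometry Opposite TopologicalSpace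

namespace K116.NormBir

open Groth.Agent Groth.Agent.Fdesc.LocGen Groth.Agent.Dix.NormalSec

/-- A dominant morphism maps the generic point to the generic point. -/
theorem map_genericPoint {X Y : Scheme.{u}} [IrreducibleSpace X] [IrreducibleSpace Y] (f : X ⟶ Y)
    [IsDominant f] : f (genericPoint X) = genericPoint Y := by
  have h := (genericPoint_spec X).image f.continuous
  rw [Set.image_univ, f.denseRange.closure_eq] at h
  exact h.eq (genericPoint_spec Y)

section Glue

variable {X : Scheme.{u}} [IsIntegral X]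

theorem generic_mem {U : X.Opens} {x : X} (hx : x ∈ U) : genericPoint X ∈ U :=
  ((genericPoint_spec X).specializes trivial).mem_open U.isOpen hx

/-- The map from the local ring at `x` to the function field. -/
noncomputable def sp (x : X) : X.presheaf.stalk x →+* X.presheaf.stalk (genericPoint X) :=
  (X.presheaf.stalkSpecializes ((genericPoint_spec X).specializes trivial : genericPoint X ⤳ x)).hom

theorem sp_germ {U : X.Opens} {x : X} (hx : x ∈ U) (t : Γ(X, U)) :
    sp x (germ U x hx t) = germ U (genericPoint X) (generic_mem hx) t :=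
  congr($(X.presheaf.germ_stalkSpecializes hx _) t)

/-- An element of the function field which lies in all local rings over a nonempty open comes from a section. -/
theorem exists_section (U : X.Opens) (hU : genericPoint X ∈ U) (z : X.presheaf.stalk (genericPoint X))
    (h : ∀ x ∈ U, ∃ y : X.presheaf.stalk x, sp x y = z) :
    ∃ t : Γ(X, U), germ U (genericPoint X) hU t = z := by
  have key : ∀ x : U, ∃ (W : X.Opens) (_ : W ≤ U) (hxW : (x : X) ∈ W) (c : Γ(X, W)),
      germ W (genericPoint X) (generic_mem hxW) c = z := by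
    rintro ⟨x, hx⟩
    obtain ⟨y, hy⟩ := h x hx
    obtain ⟨W₀, hxW₀, c₀, hc₀⟩ := X.presheaf.exists_germ_eq y
    refine ⟨W₀ ⊓ U, inf_le_right, ⟨hxW₀, hx⟩, ores inf_le_left c₀, ?_⟩
    rw [germ_ores inf_le_left (genericPoint X), ← sp_germ hxW₀, ← hy]
    exact congrArg _ hc₀
  choose W hW hxW c hc using key
  obtain ⟨t, ht⟩ := ores_glue (V := U) W hW (by
    intro x hx
    exact (le_iSup W ⟨x, hx⟩) (hxW ⟨x, hx⟩)) c (by
    intro i j
    apply germ_injective _ (genericPoint X) (show genericPoint X ∈ W i ⊓ W j from
      ⟨generic_mem (hxW i), generic_mem (hxW j)⟩)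
    rw [germ_ores, germ_ores, hc, hc])
  refine ⟨t, ?_⟩
  rw [← hc ⟨_, hU⟩, ← ht ⟨_, hU⟩, germ_ores]

end Glue

section

variable {X Y : Scheme.{u}} [IsIntegral X] (hX : ∀ x : X, IsIntegrallyClosed (X.presheaf.stalk x))
  (f : X ⟶ Y) [QuasiCompact f] [QuasiSeparated f]

include hX in
/-- The relative normalization of a scheme in a normal integral scheme is normal. -/
theorem isIntegrallyClosed_stalk (z : f.normalization) :
    IsIntegrallyClosed (f.normalization.presheaf.stalk z) := by
  obtain ⟨U, hU, hzU, -⟩ := exists_isAffineOpen_mem_and_subset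
    (x := f.fromNormalization z) (U := ⊤) trivial
  let V := f.fromNormalization ⁻¹ᵁ U
  have hV : IsAffineOpen V := hU.preimage _
  have hzV : z ∈ V := hzU
  have hne : Nonempty V := ⟨⟨z, hzV⟩⟩
  have hneW : Nonempty (f.toNormalization ⁻¹ᵁ V : X.Opens) := by
    obtain ⟨w, hw⟩ := f.toNormalization.denseRange.exists_mem_open V.2 ⟨z, hzV⟩
    exact ⟨⟨w, hw⟩⟩
  have h1 : IsIntegrallyClosed Γ(X, f.toNormalization ⁻¹ᵁ V) :=
    Dix.NormalSec.isIntegrallyClosed _ fun x _ => hX x
  let a1 : Algebra Γ(f.normalization, V) Γ(X, f.toNormalization ⁻¹ᵁ V) :=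
    (f.toNormalization.app V).hom.toAlgebra
  have h2 : IsIntegrallyClosedIn Γ(f.normalization, V) Γ(X, f.toNormalization ⁻¹ᵁ V) :=
    CurvesA.NormFinite.isIntegrallyClosedIn_toNormalization f U hU
  have h3 : Function.Injective (algebraMap Γ(f.normalization, V) Γ(X, f.toNormalization ⁻¹ᵁ V)) :=
    (isIntegrallyClosedIn_iff.1 h2).1
  have h4 : FaithfulSMul Γ(f.normalization, V) Γ(X, f.toNormalization ⁻¹ᵁ V) :=
    (faithfulSMul_iff_algebraMap_injective _ _).2 h3
  have h5 : IsIntegrallyClosed Γ(f.normalization, V) :=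
    IsIntegrallyClosed.of_isIntegrallyClosed_of_isIntegrallyClosedIn _ Γ(X, f.toNormalization ⁻¹ᵁ V)
  let _ := TopCat.Presheaf.algebra_section_stalk f.normalization.presheaf ⟨z, hzV⟩
  have h6 := hV.isLocalization_stalk ⟨z, hzV⟩
  exact isIntegrallyClosed_of_isLocalization (R := Γ(f.normalization, V))
    (f.normalization.presheaf.stalk z) (hV.primeIdealOf ⟨z, hzV⟩).asIdeal.primeCompl
    (Ideal.primeCompl_le_nonZeroDivisors _)

end

section Bir

variable {X Y : Scheme.{u}} [IsIntegral X] [IsIntegral Y]

theorem isField_stalk {x : X} (hx : x = genericPoint X) : IsField (X.presheaf.stalk x) := by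
  subst hx
  exact isField_stalk_of_closure_mem_irreducibleComponents X _ (by simp [irreducibleComponents_eq_singleton])


omit [IsIntegral Y] in
theorem exists_section_of_isIntegral (hX : ∀ x : X, IsIntegrallyClosed (X.presheaf.stalk x)) (f : X ⟶ Y)
    (V : Y.Opens) (hV : genericPoint X ∈ f ⁻¹ᵁ V) (z : X.presheaf.stalk (genericPoint X))
    (hz : ((germ (f ⁻¹ᵁ V) (genericPoint X) hV).comp (f.app V).hom).IsIntegralElem z) :
    ∃ t : Γ(X, f ⁻¹ᵁ V), germ (f ⁻¹ᵁ V) (genericPoint X) hV t = z ∧ (f.app V).hom.IsIntegralElem t := by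
  obtain ⟨p, hp, hpz⟩ := hz
  obtain ⟨t, ht⟩ := exists_section (f ⁻¹ᵁ V) hV z (by
    intro x hx
    have := hX x
    let : Algebra (X.presheaf.stalk x) X.functionField := stalkFunctionFieldAlgebra X x
    have h1 : IsIntegral (X.presheaf.stalk x) (show X.functionField from z) := by
      refine ⟨p.map ((germ (f ⁻¹ᵁ V) x hx).comp (f.app V).hom), hp.map _, ?_⟩
      rw [Polynomial.eval₂_map, ← hpz]
      congr 1
      ext c
      exact sp_germ hx _
    exact IsIntegrallyClosed.isIntegral_iff.1 h1)
  refine ⟨t, ht, p, hp, ?_⟩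
  apply germ_injective (f ⁻¹ᵁ V) (genericPoint X) hV
  rw [map_zero, Polynomial.hom_eval₂, ht, hpz]

theorem isIso_stalkMap (hX : ∀ x : X, IsIntegrallyClosed (X.presheaf.stalk x)) (f : X ⟶ Y)
    [IsDominant f] [LocallyQuasiFinite f] [QuasiCompact f] [QuasiSeparated f] :
    IsIso (f.toNormalization.stalkMap (genericPoint X)) := by
  set η := genericPoint X with hη
  have hgη : f.toNormalization η = genericPoint f.normalization := map_genericPoint _
  have hfη : f η = genericPoint Y := map_genericPoint _
  have hF : IsField (f.normalization.presheaf.stalk (f.toNormalization η)) := isField_stalk hgη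
  have hFY : IsField (Y.presheaf.stalk (f η)) := isField_stalk hfη
  have hgerm : ∀ {Z : Scheme.{u}} (g : X ⟶ Z) (W : Z.Opens) (hW : g η ∈ W) (c : Γ(Z, W)),
      g.stalkMap η (germ W (g η) hW c) = germ (g ⁻¹ᵁ W) η hW (g.app W c) := fun g W hW c =>
    congr($(g.germ_stalkMap W η hW) c)
  refine (ConcreteCategory.isIso_iff_bijective _).mpr ⟨?_, ?_⟩
  · let := hF.toField
    exact (f.toNormalization.stalkMap η).hom.injective
  intro b
  -- `b` is integral over the function field of `Y`
  let a1 : Algebra (Y.presheaf.stalk (f η)) (X.presheaf.stalk η) := (f.stalkMap η).hom.toAlgebra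
  have hQF : Algebra.QuasiFinite (Y.presheaf.stalk (f η)) (X.presheaf.stalk η) := f.quasiFiniteAt η
  have hArt : IsArtinianRing (Y.presheaf.stalk (f η)) := by
    let := hFY.toField
    infer_instance
  have hfin : Module.Finite (Y.presheaf.stalk (f η)) (X.presheaf.stalk η) := Module.Finite.of_quasiFinite
  have hb : IsIntegral (Y.presheaf.stalk (f η)) b := Algebra.IsIntegral.isIntegral b
  obtain ⟨V, hV, hyV, -⟩ := exists_isAffineOpen_mem_and_subset (x := f η) (U := ⊤) trivial
  let a2 : Algebra Γ(Y, V) (Y.presheaf.stalk (f η)) := (germ V (f η) hyV).toAlgebra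
  let a3 : Algebra Γ(Y, V) (X.presheaf.stalk η) := ((f.stalkMap η).hom.comp (germ V (f η) hyV)).toAlgebra
  have : IsScalarTower Γ(Y, V) (Y.presheaf.stalk (f η)) (X.presheaf.stalk η) := .of_algebraMap_eq' rfl
  have hloc : IsLocalization (hV.primeIdealOf ⟨f η, hyV⟩).asIdeal.primeCompl (Y.presheaf.stalk (f η)) :=
    hV.isLocalization_stalk ⟨f η, hyV⟩
  obtain ⟨m, hm⟩ := IsIntegral.exists_multiple_integral_of_isLocalization
    (hV.primeIdealOf ⟨f η, hyV⟩).asIdeal.primeCompl b hb
  have hmu : IsUnit (f.stalkMap η (germ V (f η) hyV m.1)) :=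
    (IsLocalization.map_units (Y.presheaf.stalk (f η)) m).map (f.stalkMap η).hom
  have hmb : m • b = f.stalkMap η (germ V (f η) hyV m.1) * b := Algebra.smul_def m.1 b
  have hcomp : (germ (f ⁻¹ᵁ V) η hyV).comp (f.app V).hom = (f.stalkMap η).hom.comp (germ V (f η) hyV) := by
    ext c
    exact (hgerm f V hyV c).symm
  obtain ⟨t, ht, hti⟩ := exists_section_of_isIntegral hX f V hyV (m • b) (by
    rw [hcomp]
    exact hm)
  -- `t` comes from the normalization
  let W := f.fromNormalization ⁻¹ᵁ V
  have hW : f.toNormalization ⁻¹ᵁ W = f ⁻¹ᵁ V := by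
    rw [← Scheme.Hom.comp_preimage, f.toNormalization_fromNormalization]
  have hηW : f.toNormalization η ∈ W := by
    have h1 : η ∈ f.toNormalization ⁻¹ᵁ W := by rw [hW]; exact hyV
    exact h1
  let a4 : Algebra Γ(f.normalization, W) Γ(X, f.toNormalization ⁻¹ᵁ W) := (f.toNormalization.app W).hom.toAlgebra
  have hic : IsIntegrallyClosedIn Γ(f.normalization, W) Γ(X, f.toNormalization ⁻¹ᵁ W) :=
    CurvesA.NormFinite.isIntegrallyClosedIn_toNormalization f V hV
  have happ : (f.toNormalization.app W).hom.comp (f.fromNormalization.app V).hom =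
      (ores hW.le).comp (f.app V).hom := by
    have h1 : f.fromNormalization.app V ≫ f.toNormalization.app W =
        f.app V ≫ X.presheaf.map (homOfLE hW.le).op := by
      have h2 : f.app V ≫ X.presheaf.map (homOfLE hW.le).op =
          (f.toNormalization ≫ f.fromNormalization).app V := by
        have h3 : ∀ (g : X ⟶ Y) (hg : g = f) (h : g ⁻¹ᵁ V ≤ f ⁻¹ᵁ V), f.app V ≫ X.presheaf.map (homOfLE h).op =
            g.app V := by
          rintro g rfl h
          exact (congrArg _ (X.presheaf.map_id _)).trans (Category.comp_id _)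
        exact h3 _ f.toNormalization_fromNormalization _
      rw [h2, Scheme.Hom.comp_app]
    exact congrArg CommRingCat.Hom.hom h1
  have hti' : IsIntegral Γ(f.normalization, W) (ores hW.le t) := by
    obtain ⟨p, hp, hpt⟩ := hti
    refine ⟨p.map (f.fromNormalization.app V).hom, hp.map _, ?_⟩
    rw [Polynomial.eval₂_map]
    change Polynomial.eval₂ ((f.toNormalization.app W).hom.comp (f.fromNormalization.app V).hom) _ p = 0
    rw [happ, ← Polynomial.hom_eval₂, hpt, map_zero]
  obtain ⟨d, hd⟩ := IsIntegrallyClosedIn.isIntegral_iff.mp hti'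
  have hd' : f.toNormalization.app W d = ores hW.le t := hd
  have h1 : f.toNormalization.stalkMap η (germ W (f.toNormalization η) hηW d) = m • b := by
    rw [hgerm, hd', germ_ores, ht]
  have h2 : f.toNormalization.stalkMap η
      (germ W (f.toNormalization η) hηW (f.fromNormalization.app V m.1)) =
      f.stalkMap η (germ V (f η) hyV m.1) := by
    rw [hgerm]
    have h3 : f.toNormalization.app W (f.fromNormalization.app V m.1) = ores hW.le (f.app V m.1) :=
      congr($happ m.1)
    rw [h3, germ_ores]
    exact (hgerm f V hyV m.1).symm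
  have h3 : germ W (f.toNormalization η) hηW (f.fromNormalization.app V m.1) ≠ 0 := by
    intro h0
    rw [h0, map_zero] at h2
    rw [← h2] at hmu
    exact not_isUnit_zero hmu
  obtain ⟨r, hr⟩ := hF.mul_inv_cancel h3
  refine ⟨germ W (f.toNormalization η) hηW d * r, ?_⟩
  rw [map_mul, h1, hmb, ← h2, mul_right_comm, ← map_mul, hr, map_one, one_mul]

theorem isLocalIso_toNormalization (hX : ∀ x : X, IsIntegrallyClosed (X.presheaf.stalk x)) (f : X ⟶ Y)
    [IsDominant f] [LocallyQuasiFinite f] [LocallyOfFiniteType f] [QuasiCompact f] [QuasiSeparated f] :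
    IsLocalIso f.toNormalization := by
  have h1 : LocallyQuasiFinite f.toNormalization := by
    have : LocallyQuasiFinite (f.toNormalization ≫ f.fromNormalization) := by
      rw [f.toNormalization_fromNormalization]; infer_instance
    exact LocallyQuasiFinite.of_comp _ f.fromNormalization
  have h2 : LocallyOfFiniteType f.toNormalization := by
    have : LocallyOfFiniteType (f.toNormalization ≫ f.fromNormalization) := by
      rw [f.toNormalization_fromNormalization]; infer_instance
    exact locallyOfFiniteType_of_comp _ f.fromNormalization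
  exact ZmtBir.isLocalIso (isIntegrallyClosed_stalk hX f) f.toNormalization (map_genericPoint _)
    (isIso_stalkMap hX f)

omit [IsIntegral X] [IsIntegral Y] in
theorem isOpenImmersion_iff (f : X ⟶ Y)
    [LocallyQuasiFinite f] [LocallyOfFiniteType f] [QuasiCompact f] [QuasiSeparated f] :
    IsOpenImmersion f.toNormalization ↔ IsSeparated f := by
  constructor
  · intro h
    rw [← f.toNormalization_fromNormalization]
    infer_instance
  · intro h
    infer_instance

end Bir

end K116.NormBir
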