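import Groth.Agent.FlatA.ZMTFactor
import Groth.Agent.Fdesc.IntegralFib
import Mathlib.AlgebraicGeometry.Normalization

/-!
# Immersions into schemes integral over the base

* `locallyQuasiFinite_comp`: an immersion followed by an integral morphism is locally quasi-finite if it is of
  finite type.
* `exists_iff`: `f` is an immersion followed by a finite morphism iff `f.toNormalization` is an immersion.
-/

set_option autoImplicit false
universe u v w
open CategoryTheory CategoryTheory.Limits AlgebraicGeometry Opposite TopologicalSpace

namespace K116.NormImm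

open Groth.Agent

/-- A quasi-sober noetherian `T₀` space without nontrivial specializations is finite. -/
theorem finite_of_no_specializes (α : Type*) [TopologicalSpace α]
    [TopologicalSpace.NoetherianSpace α] [QuasiSober α] [T0Space α]
    (h : ∀ x y : α, x ⤳ y → x = y) : Finite α := by
  have hfin := TopologicalSpace.NoetherianSpace.finite_irreducibleComponents (α := α)
  have hmem : ∀ x : α, closure {x} ∈ irreducibleComponents α := by
    intro x
    obtain ⟨T, hT, hxT⟩ := exists_mem_irreducibleComponents_subset_of_isIrreducible
      ({x} : Set α) isIrreducible_singleton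
    obtain ⟨w, hw⟩ := QuasiSober.sober hT.1 (isClosed_of_mem_irreducibleComponents _ hT)
    have : w = x := h w x (hw.specializes (hxT rfl))
    subst this
    rwa [hw.def]
  have : Finite (irreducibleComponents α) := hfin
  refine Finite.of_injective (fun x : α => (⟨closure {x}, hmem x⟩ : irreducibleComponents α)) ?_
  intro x y hxy
  have h1 : closure ({x} : Set α) = closure {y} := congrArg Subtype.val hxy
  apply h
  rw [specializes_iff_mem_closure, h1]
  exact subset_closure rfl

theorem locallyQuasiFinite_comp {X X' Y : Scheme.{u}} (g : X ⟶ X') (π : X' ⟶ Y) (hg : Topology.IsInducing g)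
    [IsIntegralHom π] (f : X ⟶ Y) (hf : g ≫ π = f) [LocallyOfFiniteType f]
    [QuasiCompact f] : LocallyQuasiFinite f := by
  refine LocallyQuasiFinite.of_finite_preimage_singleton _ fun y => ?_
  have h1 : LocallyOfFiniteType (f.fiberToSpecResidueField y) := MorphismProperty.pullback_snd _ _ inferInstance
  have h2 : IsLocallyNoetherian (f.fiber y) := LocallyOfFiniteType.isLocallyNoetherian (f.fiberToSpecResidueField y)
  have h3 : IsNoetherian (f.fiber y) := ⟨⟩
  have h4 : Finite (f.fiber y) := by
    refine finite_of_no_specializes _ fun a b hab => ?_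
    apply (f.fiberι y).isEmbedding.injective
    have h5 : g (f.fiberι y a) ⤳ g (f.fiberι y b) := (hab.map (f.fiberι y).continuous).map g.continuous
    have h6 : ∀ a : f.fiber y, π (g (f.fiberι y a)) = y := by
      intro a
      rw [← Scheme.Hom.comp_apply, hf]
      have : f.fiberι y a ∈ Set.range (f.fiberι y) := ⟨a, rfl⟩
      rw [f.range_fiberι] at this
      exact this
    have h7 := Fdesc.IntegralFib.eq_of_specializes_of_isIntegralHom π h5 ((h6 a).trans (h6 b).symm)
    have h8 : f.fiberι y a ⤳ f.fiberι y b := by
      rw [← hg.specializes_iff, h7]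
    have h9 : f.fiberι y b ⤳ f.fiberι y a := by
      rw [← hg.specializes_iff, h7]
    exact (h8.antisymm h9).eq
  have h5 : f ⁻¹' {y} = Set.range (f.fiberι y) := (f.range_fiberι y).symm
  rw [h5]
  exact Set.finite_range _

theorem exists_iff {X Y : Scheme.{u}} (f : X ⟶ Y)
    [CompactSpace Y] [QuasiSeparatedSpace Y] [IsSeparated f] [LocallyOfFiniteType f] [QuasiCompact f] :
    (∃ (Y' : Scheme.{u}) (f' : X ⟶ Y') (u : Y' ⟶ Y), IsImmersion f' ∧ IsFinite u ∧ f' ≫ u = f) ↔
      IsImmersion f.toNormalization := by
  constructor
  · rintro ⟨Y', f', u, h1, h2, h3⟩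
    have h4 := f.toNormalization_normalizationDesc f' u h3.symm
    have : IsImmersion (f.toNormalization ≫ f.normalizationDesc f' u h3.symm) := by rwa [h4]
    exact IsImmersion.of_comp f.toNormalization (f.normalizationDesc f' u h3.symm)
  · intro h
    have : LocallyQuasiFinite f := locallyQuasiFinite_comp f.toNormalization f.fromNormalization
      f.toNormalization.isEmbedding.toIsInducing f f.toNormalization_fromNormalization
    obtain ⟨T, j, π, h1, -, -, h2, h3⟩ := FlatA.ZMTFactor.exists_factor f
    exact ⟨T, j, π, inferInstance, h2, h3⟩

end K116.NormImm
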