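import Groth.Agent.Ega3B.LimInv

/-!
# Cofiltered limits of schemes with open immersions as transition maps

* `isEmbedding_π`, `isIso_stalkMap_π`.
-/

set_option autoImplicit false
universe u v w
open CategoryTheory CategoryTheory.Limits AlgebraicGeometry Opposite TopologicalSpace

namespace K116.OpenLim

open Groth.Agent.Ega3B.LimInv Groth.Agent.Fdesc.LocGen

section Germ

variable {X Y : Scheme.{u}} (f : X ⟶ Y)

theorem stalkMap_germ {V : Y.Opens} {U : X.Opens} (h : U ≤ f ⁻¹ᵁ V) (x : X) (hx : x ∈ U) (s : Γ(Y, V)) :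
    f.stalkMap x (Y.presheaf.germ V (f x) (h hx) s) = X.presheaf.germ U x hx (pl f h s) := by
  rw [Scheme.Hom.germ_stalkMap_apply, pl, Scheme.Hom.appLE]
  exact (TopCat.Presheaf.germ_res_apply _ _ _ _ _).symm

theorem pl_bijective [IsOpenImmersion f] (U : X.Opens) :
    Function.Bijective (pl f (f.preimage_image_eq U).ge) := by
  have h : (f.appIso U).hom = f.appLE (f ''ᵁ U) U (f.preimage_image_eq U).ge := f.appIso_hom' U
  have h2 : IsIso (f.appLE (f ''ᵁ U) U (f.preimage_image_eq U).ge) := h ▸ inferInstance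
  exact ConcreteCategory.bijective_of_isIso (f.appLE (f ''ᵁ U) U (f.preimage_image_eq U).ge)

end Germ

variable {I : Type u} [SmallCategory I] [IsCofiltered I] {D : I ⥤ Scheme.{u}} {c : Cone D}
  [∀ {i j : I} (f : i ⟶ j), IsAffineHom (D.map f)] (hc : IsLimit c)

set_option backward.defeqAttrib.useBackward true in
set_option backward.isDefEq.respectTransparency false in
include hc in
/-- A section over the preimage of an affine open of a stage comes from some stage. -/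
theorem exists_pl_of_isAffineOpen {i : I} {W : (D.obj i).Opens}
    (hW : IsAffineOpen W) (s : Γ(c.pt, c.π.app i ⁻¹ᵁ W)) :
    ∃ (k : I) (a : k ⟶ i) (t : Γ(D.obj k, D.map a ⁻¹ᵁ W)),
      pl (c.π.app k) (preimage_eq D c a W).ge t = s := by
  have (j : Over i) : IsAffine ((opensDiagram D i W).obj j) := hW.preimage _
  have (j : Over i) : CompactSpace ((opensDiagram D i W).obj j) := inferInstance
  have (j : Over i) : QuasiSeparatedSpace ((opensDiagram D i W).obj j) := inferInstance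
  obtain ⟨j, t, hj⟩ := exists_appTop_π_eq_of_isLimit _ _
      (isLimitOpensCone D c hc i W) ((c.π.app i ⁻¹ᵁ W).topIso.inv s)
  refine ⟨j.left, j.hom, (D.map j.hom ⁻¹ᵁ W).topIso.hom t, ?_⟩
  have h2 : (c.π.app i ⁻¹ᵁ W).topIso.hom (((opensCone D c i W).π.app j).appTop t) = s := by
    rw [← hj]
    exact (c.π.app i ⁻¹ᵁ W).topIso.commRingCatIsoToRingEquiv.apply_symm_apply s
  rw [← h2]
  have h3 : ((opensCone D c i W).π.app j).appTop ≫ (c.π.app i ⁻¹ᵁ W).topIso.hom =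
      (D.map j.hom ⁻¹ᵁ W).topIso.hom ≫
        (c.π.app j.left).appLE (D.map j.hom ⁻¹ᵁ W) (c.π.app i ⁻¹ᵁ W) (preimage_eq D c j.hom W).ge := by
    dsimp [opensCone]
    rw [Scheme.Hom.appTop, Scheme.Hom.resLE_app_top]
    simp
  have h4 := congr($(h3) t)
  rw [ConcreteCategory.comp_apply, ConcreteCategory.comp_apply] at h4
  exact h4.symm

include hc in
/-- Every neighbourhood of a point of the limit contains the preimage of an affine open neighbourhood of the image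
at some stage over `i`. -/
theorem exists_nhd (i : I) {N : c.pt.Opens} {s : c.pt} (hs : s ∈ N) :
    ∃ (k : I) (_ : k ⟶ i) (V : (D.obj k).Opens), IsAffineOpen V ∧ c.π.app k s ∈ V ∧ c.π.app k ⁻¹ᵁ V ≤ N := by
  obtain ⟨_, ⟨j, V, hV, rfl⟩, hsV, hle⟩ :=
    Opens.isBasis_iff_nbhd.mp (isBasis_preimage_isAffineOpen D c hc) hs
  obtain ⟨k, a, b, -⟩ := IsCofilteredOrEmpty.cone_objs i j
  refine ⟨k, a, D.map b ⁻¹ᵁ V, hV.preimage _, ?_, ?_⟩
  · have h1 : s ∈ c.π.app k ⁻¹ᵁ D.map b ⁻¹ᵁ V := by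
      rw [preimage_eq D c b V]; exact hsV
    exact h1
  · rw [preimage_eq D c b V]; exact hle

include hc in
/-- The projections are topological embeddings. -/
theorem isEmbedding_π (i : I) (hoi : ∀ (j : I) (φ : j ⟶ i), IsOpenImmersion (D.map φ)) :
    Topology.IsEmbedding (c.π.app i) := by
  have h : Topology.IsInducing (c.π.app i) := by
    refine ⟨le_antisymm (continuous_iff_le_induced.mp (c.π.app i).continuous) ?_⟩
    intro U hU
    rw [isOpen_iff_forall_mem_open] at hU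
    refine (@isOpen_iff_forall_mem_open _ (TopologicalSpace.induced (c.π.app i) inferInstance) U).mpr
      fun s hs => ?_
    obtain ⟨N, hNU, hN, hsN⟩ := hU s hs
    obtain ⟨k, a, V, hV, hsV, hle⟩ := exists_nhd hc i (N := ⟨N, hN⟩) hsN
    have := hoi k a
    refine ⟨c.π.app i ⁻¹ᵁ (D.map a ''ᵁ V), ?_, isOpen_induced (D.map a ''ᵁ V).2, ?_⟩
    · refine subset_trans ?_ (subset_trans hle hNU)
      rw [← preimage_eq D c a, Scheme.Hom.preimage_image_eq]
    · have h1 : s ∈ c.π.app k ⁻¹ᵁ D.map a ⁻¹ᵁ (D.map a ''ᵁ V) := by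
        rw [Scheme.Hom.preimage_image_eq]; exact hsV
      rw [preimage_eq D c a] at h1
      exact h1
  exact h.isEmbedding

include hc in
theorem stalkMap_surjective (i : I) (hoi : ∀ (j : I) (φ : j ⟶ i), IsOpenImmersion (D.map φ)) (s : c.pt) :
    Function.Surjective ((c.π.app i).stalkMap s) := by
  intro x
  obtain ⟨N, hsN, t, rfl⟩ := c.pt.presheaf.exists_germ_eq x
  obtain ⟨k, a, V, hV, hsV, hle⟩ := exists_nhd hc i (N := N) hsN
  obtain ⟨l, b, t', ht'⟩ := exists_pl_of_isAffineOpen hc hV (ores hle t)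
  have := hoi l (b ≫ a)
  obtain ⟨t'', ht''⟩ := (pl_bijective (D.map (b ≫ a)) (D.map b ⁻¹ᵁ V)).2 t'
  have hle' : c.π.app k ⁻¹ᵁ V ≤ c.π.app i ⁻¹ᵁ (D.map (b ≫ a) ''ᵁ (D.map b ⁻¹ᵁ V)) := by
    rw [← preimage_eq D c (b ≫ a), Scheme.Hom.preimage_image_eq, preimage_eq]
  refine ⟨(D.obj i).presheaf.germ _ (c.π.app i s) (hle' hsV) t'', ?_⟩
  rw [stalkMap_germ (c.π.app i) hle' s hsV,
    ← pl_pl (c.π.app l) (D.map (b ≫ a)) (c.π.app i) (c.w _) (preimage_eq D c b V).ge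
      ((D.map (b ≫ a)).preimage_image_eq _).ge hle', ht'', ht']
  exact TopCat.Presheaf.germ_res_apply _ _ _ _ _

include hc in
theorem stalkMap_injective (i : I) (hoi : ∀ (j : I) (φ : j ⟶ i), IsOpenImmersion (D.map φ)) (s : c.pt) :
    Function.Injective ((c.π.app i).stalkMap s) := by
  intro x y hxy
  obtain ⟨V, hsV, t, t', rfl, rfl⟩ : ∃ (V : (D.obj i).Opens) (hV : c.π.app i s ∈ V) (t t' : Γ(D.obj i, V)),
      (D.obj i).presheaf.germ V _ hV t = x ∧ (D.obj i).presheaf.germ V _ hV t' = y := by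
    obtain ⟨V, hV, t, rfl⟩ := (D.obj i).presheaf.exists_germ_eq x
    obtain ⟨V', hV', t', rfl⟩ := (D.obj i).presheaf.exists_germ_eq y
    exact ⟨V ⊓ V', ⟨hV, hV'⟩, ores inf_le_left t, ores inf_le_right t',
      TopCat.Presheaf.germ_res_apply _ _ _ _ _, TopCat.Presheaf.germ_res_apply _ _ _ _ _⟩
  rw [stalkMap_germ (c.π.app i) (U := c.π.app i ⁻¹ᵁ V) le_rfl s hsV,
    stalkMap_germ (c.π.app i) (U := c.π.app i ⁻¹ᵁ V) le_rfl s hsV] at hxy
  obtain ⟨N, hsN, iN, iN', hN⟩ := c.pt.presheaf.germ_eq s hsV hsV _ _ hxy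
  obtain rfl : iN = iN' := Subsingleton.elim _ _
  obtain ⟨k, a, W₀, hW₀, hsW₀, hle₀⟩ := exists_nhd hc i (N := N) hsN
  obtain ⟨W, hW, hsW, hWle⟩ := exists_isAffineOpen_mem_and_subset (x := c.π.app k s)
    (U := W₀ ⊓ D.map a ⁻¹ᵁ V) ⟨hsW₀, by
      have h1 : s ∈ c.π.app k ⁻¹ᵁ D.map a ⁻¹ᵁ V := by rw [preimage_eq D c a]; exact hsV
      exact h1⟩
  have hWV : W ≤ D.map a ⁻¹ᵁ V := hWle.trans inf_le_right
  have hWN : c.π.app k ⁻¹ᵁ W ≤ N := ((c.π.app k).preimage_mono (hWle.trans inf_le_left)).trans hle₀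
  have hWV' : c.π.app k ⁻¹ᵁ W ≤ c.π.app i ⁻¹ᵁ V := by
    rw [← preimage_eq D c a]
    exact (c.π.app k).preimage_mono hWV
  have h2 : pl (c.π.app k) (le_refl (c.π.app k ⁻¹ᵁ W)) (pl (D.map a) hWV t) =
      pl (c.π.app k) (le_refl (c.π.app k ⁻¹ᵁ W)) (pl (D.map a) hWV t') := by
    rw [pl_pl (c.π.app k) (D.map a) (c.π.app i) (c.w a) _ _ hWV',
      pl_pl (c.π.app k) (D.map a) (c.π.app i) (c.w a) _ _ hWV']
    have h3 := congrArg (ores hWN) hN
    have h4 : ∀ r : Γ(D.obj i, V), pl (c.π.app i) hWV' r =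
        ores hWN (c.pt.presheaf.map iN.op (pl (c.π.app i) (le_refl (c.π.app i ⁻¹ᵁ V)) r)) := by
      intro r
      have h5 : pl (c.π.app i) hWV' r = ores hWV' (pl (c.π.app i) (le_refl (c.π.app i ⁻¹ᵁ V)) r) :=
        (ores_pl _ _ _ _).symm
      rw [h5]
      exact (ores_ores (leOfHom iN) hWN _).symm
    rw [h4, h4]
    exact h3
  obtain ⟨l, b, hl⟩ := exists_pl_eq D c hc hW.isCompact _ _ rfl h2
  have h3 := hl l (𝟙 l) b (Category.id_comp _) (D.map b ⁻¹ᵁ W) le_rfl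
  have hle : D.map b ⁻¹ᵁ W ≤ D.map (b ≫ a) ⁻¹ᵁ V := by
    rw [← map_preimage_eq]
    exact (D.map b).preimage_mono hWV
  rw [pl_pl (D.map b) (D.map a) (D.map (b ≫ a)) (D.map_comp _ _).symm _ _ hle,
    pl_pl (D.map b) (D.map a) (D.map (b ≫ a)) (D.map_comp _ _).symm _ _ hle] at h3
  have := hoi l (b ≫ a)
  have hO : D.map (b ≫ a) ''ᵁ (D.map b ⁻¹ᵁ W) ≤ V :=
    ((D.map (b ≫ a)).image_mono hle).trans ((D.map (b ≫ a)).image_preimage_le V)
  have h6 : ores hO t = ores hO t' := by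
    refine (pl_bijective (D.map (b ≫ a)) (D.map b ⁻¹ᵁ W)).1 ?_
    rw [pl_ores, pl_ores]
    exact h3
  have hsO : c.π.app i s ∈ D.map (b ≫ a) ''ᵁ (D.map b ⁻¹ᵁ W) := by
    have h7 : s ∈ c.π.app l ⁻¹ᵁ D.map (b ≫ a) ⁻¹ᵁ (D.map (b ≫ a) ''ᵁ (D.map b ⁻¹ᵁ W)) := by
      rw [Scheme.Hom.preimage_image_eq, preimage_eq]
      exact hsW
    rw [preimage_eq] at h7
    exact h7
  have h8 : ∀ r : Γ(D.obj i, V), (D.obj i).presheaf.germ V (c.π.app i s) hsV r =
      (D.obj i).presheaf.germ _ (c.π.app i s) hsO (ores hO r) := fun r =>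
    (TopCat.Presheaf.germ_res_apply _ _ _ _ _).symm
  rw [h8, h8, h6]

include hc in
theorem isIso_stalkMap_π (i : I) (hoi : ∀ (j : I) (φ : j ⟶ i), IsOpenImmersion (D.map φ)) (s : c.pt) :
    IsIso ((c.π.app i).stalkMap s) :=
  (ConcreteCategory.isIso_iff_bijective _).mpr ⟨stalkMap_injective hc i hoi s, stalkMap_surjective hc i hoi s⟩

end K116.OpenLim
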