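import Groth.Agent.Ega43.LimitDescendIso

/-!
# Isomorphisms between base changes to a cofiltered limit come from a stage
-/

set_option autoImplicit false
set_option backward.isDefEq.respectTransparency false
set_option backward.defeqAttrib.useBackward true
universe u

open CategoryTheory CategoryTheory.Limits AlgebraicGeometry

namespace K116.OverIso

open Groth.Agent.Ega43.LimitDescend Groth.Agent.Ega43.LimitDescendIso

variable {I : Type u} [SmallCategory I] [IsCofiltered I]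
    (D : I ⥤ Scheme.{u}) (c : Limits.Cone D) (hc : Limits.IsLimit c)
    [∀ (i j : I) (f : i ⟶ j), IsAffineHom (D.map f)] (i₀ : I)
    [CompactSpace (D.obj i₀)] [QuasiSeparatedSpace (D.obj i₀)]
    {X₀ Y₀ : Scheme.{u}} (a₀ : X₀ ⟶ D.obj i₀) (b₀ : Y₀ ⟶ D.obj i₀)

include hc in
/-- Morphisms between base changes to the limit come from a stage. -/
theorem exists_hom
    [QuasiCompact a₀] [QuasiSeparated a₀] [LocallyOfFinitePresentation b₀]
    {X Y : Scheme.{u}} (a : X ⟶ c.pt) (b : Y ⟶ c.pt) (qX : X ⟶ X₀) (qY : Y ⟶ Y₀)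
    (hX : IsPullback qX a a₀ (c.π.app i₀)) (hY : IsPullback qY b b₀ (c.π.app i₀))
    (e : X ⟶ Y) (he : e ≫ b = a) :
    ∃ (j : I) (φ : j ⟶ i₀) (f : pullback a₀ (D.map φ) ⟶ pullback b₀ (D.map φ)),
      f ≫ pullback.snd _ _ = pullback.snd _ _ ∧
      pullback.lift qX (a ≫ c.π.app j) (by rw [hX.w, Category.assoc, c.w]) ≫ f =
        e ≫ pullback.lift qY (b ≫ c.π.app j) (by rw [hY.w, Category.assoc, c.w]) := by
  let t : ∀ j : Over i₀, (Over.forget i₀ ⋙ D).obj j ⟶ D.obj i₀ := fun j ↦ D.map j.hom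
  have ht : ∀ {i j : Over i₀} (φ : i ⟶ j), (Over.forget i₀ ⋙ D).map φ ≫ t j = t i :=
    fun φ ↦ overT_w D i₀ φ
  have hp : ∀ j, (overCone c i₀).π.app j ≫ t j = c.π.app i₀ := fun j ↦ by
    simp [t]
  let E := pbDiagram t ht a₀
  let cE := pbCone t ht a₀ (overCone c i₀) (c.π.app i₀) hp qX a hX
  have hcE : IsLimit cE := isLimitPbCone t ht a₀ (overCone c i₀) (c.π.app i₀) hp qX a hX
    (isLimitOverCone c hc i₀)
  let t' : ∀ j : Over i₀, E.obj j ⟶ D.obj i₀ := fun j ↦ pullback.fst a₀ (t j) ≫ a₀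
  have ht' : ∀ {i j : Over i₀} (φ : i ⟶ j), E.map φ ≫ t' j = t' i := fun φ ↦ by
    simp only [t', E]
    rw [← Category.assoc, pbDiagram_map_fst]
  obtain ⟨i, g, hg1, hg2⟩ := Scheme.exists_π_app_comp_eq_of_locallyOfFinitePresentation E
    (toConst t' ht') b₀ cE hcE (e ≫ qY) (by
      ext j
      simp [cE, t', hY.w, hX.w, reassoc_of% he])
  replace hg2 : g ≫ b₀ = pullback.fst a₀ (t i) ≫ a₀ := hg2
  have hg3 : g ≫ b₀ = pullback.snd a₀ (D.map i.hom) ≫ D.map i.hom := by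
    rw [hg2]
    exact pullback.condition
  have hπ : cE.π.app i = pullback.lift qX (a ≫ c.π.app i.left) (by rw [hX.w, Category.assoc, c.w]) := rfl
  refine ⟨i.left, i.hom, pullback.lift g (pullback.snd a₀ (D.map i.hom)) hg3, pullback.lift_snd _ _ _, ?_⟩
  apply pullback.hom_ext
  · refine (Category.assoc _ _ _).trans ?_
    refine (congrArg _ (pullback.lift_fst _ _ _)).trans ?_
    refine Eq.trans ?_ (Category.assoc _ _ _).symm
    refine Eq.trans ?_ (congrArg _ (pullback.lift_fst _ _ _)).symm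
    exact hg1
  · simp [reassoc_of% he]

set_option backward.isDefEq.respectTransparency true in
include hc in
/-- Isomorphisms between base changes to the limit come from a stage. -/
theorem exists_iso
    [LocallyOfFinitePresentation a₀] [QuasiCompact a₀] [QuasiSeparated a₀]
    [LocallyOfFinitePresentation b₀] [QuasiCompact b₀] [QuasiSeparated b₀]
    {X Y : Scheme.{u}} (a : X ⟶ c.pt) (b : Y ⟶ c.pt) (qX : X ⟶ X₀) (qY : Y ⟶ Y₀)
    (hX : IsPullback qX a a₀ (c.π.app i₀)) (hY : IsPullback qY b b₀ (c.π.app i₀))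
    (e : X ≅ Y) (he : e.hom ≫ b = a) :
    ∃ (j : I) (φ : j ⟶ i₀) (Xj Yj : Scheme.{u}) (aj : Xj ⟶ D.obj j) (bj : Yj ⟶ D.obj j)
      (pX : Xj ⟶ X₀) (pY : Yj ⟶ Y₀), IsPullback pX aj a₀ (D.map φ) ∧ IsPullback pY bj b₀ (D.map φ) ∧
      ∃ e : Xj ≅ Yj, e.hom ≫ bj = aj := by
  obtain ⟨i, φ, f, hf, hf'⟩ := exists_hom D c hc i₀ a₀ b₀ a b qX qY hX hY e.hom he
  have h1 : IsPullback (pullback.fst a₀ (D.map φ)) (pullback.snd a₀ (D.map φ)) a₀ (D.map φ) :=
    IsPullback.of_hasPullback _ _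
  have h2 : IsPullback (pullback.fst b₀ (D.map φ)) (pullback.snd b₀ (D.map φ)) b₀ (D.map φ) :=
    IsPullback.of_hasPullback _ _
  have wX : qX ≫ a₀ = (a ≫ c.π.app i) ≫ D.map φ := by rw [hX.w, Category.assoc, c.w]
  have wY : qY ≫ b₀ = (b ≫ c.π.app i) ≫ D.map φ := by rw [hY.w, Category.assoc, c.w]
  have h3 : IsPullback (pullback.lift qX (a ≫ c.π.app i) wX) a (pullback.snd a₀ (D.map φ)) (c.π.app i) :=
    IsPullback.of_right (by rw [pullback.lift_fst, c.w]; exact hX) (pullback.lift_snd _ _ _) h1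
  have h4 : IsPullback (pullback.lift qY (b ≫ c.π.app i) wY) b (pullback.snd b₀ (D.map φ)) (c.π.app i) :=
    IsPullback.of_right (by rw [pullback.lift_fst, c.w]; exact hY) (pullback.lift_snd _ _ _) h2
  have h5 : IsPullback (pullback.lift qX (a ≫ c.π.app i) wX) e.hom f (pullback.lift qY (b ≫ c.π.app i) wY) :=
    IsPullback.of_bot (by rw [he, hf]; exact h3) hf' h4
  have : CompactSpace (D.obj i) := QuasiCompact.compactSpace_of_compactSpace (D.map φ)
  have : QuasiSeparatedSpace (D.obj i) := quasiSeparatedSpace_of_quasiSeparated (D.map φ)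
  have e1 : LocallyOfFinitePresentation (f ≫ pullback.snd b₀ (D.map φ)) := by rw [hf]; infer_instance
  have e2 : QuasiCompact (f ≫ pullback.snd b₀ (D.map φ)) := by rw [hf]; infer_instance
  have e3 : QuasiSeparated (f ≫ pullback.snd b₀ (D.map φ)) := by rw [hf]; infer_instance
  obtain ⟨k, ψ, Xk, Yk, fk, gk, pY, pX, h6, h7, h8⟩ := exists_descend_of_descendsLim'
    descendsLim_isomorphisms D c hc i f (pullback.snd b₀ (D.map φ)) e.hom b _ _ h4 h5
    (inferInstanceAs (IsIso e.hom))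
  have : IsIso fk := h8
  have h9 : IsPullback pX (fk ≫ gk) (pullback.snd a₀ (D.map φ)) (D.map ψ) := by
    have := h7.paste_vert h6
    rwa [hf] at this
  refine ⟨k, ψ ≫ φ, Xk, Yk, fk ≫ gk, gk, pX ≫ pullback.fst _ _, pY ≫ pullback.fst _ _, ?_, ?_, asIso fk, rfl⟩
  · rw [D.map_comp]
    exact h9.paste_horiz h1
  · rw [D.map_comp]
    exact h6.paste_horiz h2

end K116.OverIso
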