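import Groth.Agent.Smoothlim.LimDescend
import Mathlib.AlgebraicGeometry.ResidueField

/-!
# Emptiness of base changes of a limit is detected at a stage

`D : I ⥤ Scheme` cofiltered with affine transition maps, `c` a limit cone.
* `exists_isEmpty_pullback`: if `T` is quasi-compact, `g : T ⟶ D.obj i` and `T ×[D i] lim D = ∅`, then
  `T ×[D i] D j = ∅` for some `j ⟶ i`.
* `exists_preimage_range_eq_empty`: the same in terms of the set `range g`.
* `range_π`: the range of `c.π.app i` is the intersection of the ranges of the transition maps into `i`.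
-/

set_option autoImplicit false
universe u

open CategoryTheory CategoryTheory.Limits AlgebraicGeometry

namespace K116.Range

open Groth.Agent.Smoothlim.LimBase

theorem isEmpty_pullback_iff {X Y Z : Scheme.{u}} (f : X ⟶ Z) (g : Y ⟶ Z) :
    IsEmpty (pullback f g : Scheme.{u}) ↔ ∀ (x : X) (y : Y), f x ≠ g y := by
  constructor
  · intro h x y e
    obtain ⟨z, -, -⟩ := Scheme.Pullback.exists_preimage_pullback x y e
    exact h.elim z
  · intro h
    refine ⟨fun z => h (pullback.fst f g z) (pullback.snd f g z) ?_⟩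
    rw [← Scheme.Hom.comp_apply, ← Scheme.Hom.comp_apply, pullback.condition]

variable {I : Type u} [SmallCategory I] [IsCofiltered I] {D : I ⥤ Scheme.{u}} {c : Cone D}
  (hc : IsLimit c) [∀ (i j : I) (f : i ⟶ j), IsAffineHom (D.map f)] {i : I}

set_option backward.isDefEq.respectTransparency false in
include hc in
theorem exists_isEmpty_pullback {T : Scheme.{u}} [CompactSpace T] (g : T ⟶ D.obj i)
    (h : IsEmpty (pullback g (c.π.app i) : Scheme.{u})) :
    ∃ (j : I) (φ : j ⟶ i), IsEmpty (pullback g (D.map φ) : Scheme.{u}) := by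
  by_contra hcon
  push Not at hcon
  let E : Over i ⥤ Scheme.{u} := pbDiag D i g
  have hq : IsPullback (pullback.fst g (c.π.app i)) (pullback.snd g (c.π.app i)) g (c.π.app i) :=
    IsPullback.of_hasPullback _ _
  let cE : Cone E := pbCone i g c _ _ hq.toCommSq
  have hcE : IsLimit cE := isLimitPbCone i g c hc _ _ hq
  have h1 : ∀ {φ ψ : Over i} (h : φ ⟶ ψ), IsAffineHom (E.map h) := fun h => isAffineHom_pbDiag_map D i g h
  have h2 : ∀ φ : Over i, Nonempty (E.obj φ) := fun φ => hcon φ.left φ.hom
  have h3 : ∀ φ : Over i, CompactSpace (E.obj φ) := fun φ => by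
    have : IsAffineHom (pullback.fst g (D.map φ.hom)) := MorphismProperty.pullback_fst _ _ inferInstance
    exact QuasiCompact.compactSpace_of_compactSpace (pullback.fst g (D.map φ.hom))
  obtain ⟨x⟩ : Nonempty cE.pt := Scheme.nonempty_of_isLimit E cE hcE
  exact h.elim x

include hc in
theorem exists_preimage_range_eq_empty {T : Scheme.{u}} [CompactSpace T] (g : T ⟶ D.obj i)
    (h : ⇑(c.π.app i) ⁻¹' Set.range g = ∅) :
    ∃ (j : I) (φ : j ⟶ i), ⇑(D.map φ) ⁻¹' Set.range g = ∅ := by
  obtain ⟨j, φ, hj⟩ := exists_isEmpty_pullback hc g ((isEmpty_pullback_iff _ _).mpr fun x y e => by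
    have : y ∈ ⇑(c.π.app i) ⁻¹' Set.range g := ⟨x, e⟩
    rw [h] at this
    exact this)
  refine ⟨j, φ, Set.eq_empty_of_forall_notMem ?_⟩
  rintro y ⟨x, e⟩
  exact (isEmpty_pullback_iff _ _).mp hj x y e

include hc in
theorem range_π (i : I) : Set.range ⇑(c.π.app i) = ⋂ (j : I) (φ : j ⟶ i), Set.range ⇑(D.map φ) := by
  apply Set.Subset.antisymm
  · rintro _ ⟨x, rfl⟩
    simp only [Set.mem_iInter]
    intro j φ
    exact ⟨c.π.app j x, by rw [← Scheme.Hom.comp_apply, c.w]⟩
  · intro s hs
    simp only [Set.mem_iInter] at hs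
    by_contra hcon
    have hg : Set.range ((D.obj i).fromSpecResidueField s) = {s} := Scheme.range_fromSpecResidueField s
    obtain ⟨j, φ, hj⟩ := exists_preimage_range_eq_empty hc ((D.obj i).fromSpecResidueField s) (by
      rw [hg]
      refine Set.eq_empty_of_forall_notMem fun y hy => hcon ⟨y, hy⟩)
    obtain ⟨y, hy⟩ := hs j φ
    have : y ∈ ⇑(D.map φ) ⁻¹' Set.range ((D.obj i).fromSpecResidueField s) := by
      rw [hg]
      exact hy
    rw [hj] at this
    exact this

end K116.Range
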